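import Mathlib
import Cfsg.Agent.OddHalf.D8.Wreath

-- merged: Cfsg.Agent.OddHalf.D8.Phi.Gen
section

/-!
# ODD half, D8: equivariant families and the generating clique (helper879)

`t` an involution, `C_G(t) = ⟨t⟩ K`, `D ⊆ K` a `K`-invariant set of involutions. A *family* is a `K`-equivariant map
`a : D → G` with `a_v² = 1`, `tᵃᵛ = t v` and `[a_v, C_K(v)] = 1`; `b_v = a_vᵗ = a_v v`. `Good v w` : `[a_v, b_w] = 1`.

* `mem_comm` (TRICK): `k ∈ K`, `a_w k a_w ∈ K` imply `k w = w k`;
* `F_mem` (N0): if `v w` has order 4, `x = (v w)²` and the lines `(v, x)`, `(w, x)` are exact, then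
  `F v w = [a_v, b_w]` is an element of `K` of square 1 commuting with `v`, `w` and with `C_K(v, w)`;
* `norm_comm` (N1): `F v w₂` commutes with `w₁` if `F v w₁`, `F v w₂`, `F v (w₁ w₂)` are in `K` and `(w₁, w₂)` is exact;
* `Good.mul`, `Good.conj` (R1, R2);
* `exists_hom_of_clique`: if `D₀ ⊆ D` is pairwise good and generates `K`, then `G` has a homomorphism onto `{1, -1}` with
  `t ↦ -1`.
-/

set_option autoImplicit false

namespace Cfsg.Agent.OddHalf.D8.Phi

open Subgroup

variable {G : Type*} [Group G]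

/-- an equivariant family -/
structure Fam (t : G) (K : Subgroup G) (D : Set G) (a : G → G) : Prop where
  tt : t * t = 1
  tK : t ∉ K
  comm : ∀ k ∈ K, k * t = t * k
  cen : ∀ g : G, g * t = t * g → g ∈ K ∨ t * g ∈ K
  DK : ∀ v ∈ D, v ∈ K
  sq : ∀ v ∈ D, v * v = 1
  conj : ∀ v ∈ D, ∀ k ∈ K, k * v * k⁻¹ ∈ D
  aa : ∀ v ∈ D, a v * a v = 1
  swap : ∀ v ∈ D, a v * t * a v = t * v
  fix : ∀ v ∈ D, ∀ k ∈ K, k * v = v * k → k * a v = a v * k
  eqv : ∀ v ∈ D, ∀ k ∈ K, a (k * v * k⁻¹) = k * a v * k⁻¹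

/-- `b_v = a_v v` -/
def b (a : G → G) (v : G) : G := a v * v

/-- `[a_v, b_w]` -/
def F (a : G → G) (v w : G) : G := a v * b a w * (a v * b a w)

/-- `[a_v, b_w] = 1` -/
def Good (a : G → G) (v w : G) : Prop := a v * b a w = b a w * a v

namespace Fam

variable {t : G} {K : Subgroup G} {D : Set G} {a : G → G}

theorem av (h : Fam t K D a) {v : G} (hv : v ∈ D) : v * a v = a v * v :=
  h.fix v hv v (h.DK v hv) rfl

theorem bb (h : Fam t K D a) {v : G} (hv : v ∈ D) : b a v * b a v = 1 := by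
  unfold b
  calc a v * v * (a v * v) = a v * (v * a v) * v := by group
    _ = a v * a v * (v * v) := by rw [h.av hv]; group
    _ = 1 := by rw [h.aa v hv, h.sq v hv, one_mul]

/-- `b_v = t a_v t` -/
theorem conj_t (h : Fam t K D a) {v : G} (hv : v ∈ D) : t * a v * t = b a v := by
  unfold b
  calc t * a v * t = a v * a v * t * a v * t := by rw [h.aa v hv, one_mul]
    _ = a v * (a v * t * a v) * t := by group
    _ = a v * (t * v) * t := by rw [h.swap v hv]
    _ = a v * (v * t) * t := by rw [h.comm v (h.DK v hv)]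
    _ = a v * v * (t * t) := by group
    _ = a v * v := by rw [h.tt, mul_one]

theorem conj_t' (h : Fam t K D a) {v : G} (hv : v ∈ D) : t * b a v * t = a v := by
  rw [← h.conj_t hv]
  calc t * (t * a v * t) * t = t * t * a v * (t * t) := by group
    _ = a v := by rw [h.tt, one_mul, mul_one]

theorem mul_b (h : Fam t K D a) {v : G} (hv : v ∈ D) : a v * b a v = v := by
  unfold b
  rw [← mul_assoc, h.aa v hv, one_mul]

theorem b_mul (h : Fam t K D a) {v : G} (hv : v ∈ D) : b a v * a v = v := by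
  unfold b
  rw [mul_assoc, h.av hv, ← mul_assoc, h.aa v hv, one_mul]

/-- `b` is a family, too -/
theorem dual (h : Fam t K D a) : Fam t K D (b a) where
  tt := h.tt
  tK := h.tK
  comm := h.comm
  cen := h.cen
  DK := h.DK
  sq := h.sq
  conj := h.conj
  aa := fun _ hv => h.bb hv
  swap := by
    intro v hv
    unfold b
    calc a v * v * t * (a v * v) = a v * (v * t) * (a v * v) := by group
      _ = a v * (t * v) * (v * a v) := by rw [h.comm v (h.DK v hv), h.av hv]
      _ = a v * t * (v * v) * a v := by group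
      _ = a v * t * a v := by rw [h.sq v hv, mul_one]
      _ = t * v := h.swap v hv
  fix := by
    intro v hv k hk e
    unfold b
    calc k * (a v * v) = k * a v * v := by group
      _ = a v * (k * v) := by rw [h.fix v hv k hk e]; group
      _ = a v * v * k := by rw [e]; group
  eqv := by
    intro v hv k hk
    unfold b
    rw [h.eqv v hv k hk]
    group

theorem b_b (h : Fam t K D a) {v : G} (hv : v ∈ D) : b (b a) v = a v := by
  unfold b
  rw [mul_assoc, h.sq v hv, mul_one]

/-- **TRICK**: an element of `K` stays in `K` under `a_w` only if it commutes with `w` -/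
theorem mem_comm (h : Fam t K D a) {w k : G} (hw : w ∈ D) (hk : k ∈ K) (h1 : a w * k * a w ∈ K) :
    k * w = w * k := by
  have h2 := h.comm _ h1
  have h3 : k * (t * w) = t * w * k := by
    rw [← h.swap w hw]
    calc k * (a w * t * a w) = a w * a w * k * (a w * t * a w) := by rw [h.aa w hw, one_mul]
      _ = a w * (a w * k * a w * t) * a w := by group
      _ = a w * (t * (a w * k * a w)) * a w := by rw [h2]
      _ = a w * t * a w * k * (a w * a w) := by group
      _ = a w * t * a w * k := by rw [h.aa w hw, mul_one]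
  have h4 : t * (k * w) = t * (w * k) := by
    calc t * (k * w) = t * k * w := by group
      _ = k * t * w := by rw [h.comm k hk]
      _ = k * (t * w) := by group
      _ = t * w * k := h3
      _ = t * (w * k) := by group
  exact mul_left_cancel h4

theorem mem_comm' (h : Fam t K D a) {w k : G} (hw : w ∈ D) (hk : k ∈ K) (h1 : b a w * k * b a w ∈ K) :
    k * w = w * k := h.dual.mem_comm hw hk h1

/-- an element of `K` commutes with `a_w` if and only if it commutes with `w` -/
theorem comm_iff (h : Fam t K D a) {w k : G} (hw : w ∈ D) (hk : k ∈ K) :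
    k * a w = a w * k ↔ k * w = w * k := by
  refine ⟨fun e => h.mem_comm hw hk ?_, h.fix w hw k hk⟩
  rw [← e, mul_assoc, h.aa w hw, mul_one]
  exact hk

theorem not_comm_t (h : Fam t K D a) {v : G} (hv : v ∈ D) (hv1 : v ≠ 1) : a v * t ≠ t * a v := by
  intro e
  have h1 := h.swap v hv
  rw [e, mul_assoc, h.aa v hv, mul_one] at h1
  apply hv1
  exact mul_left_cancel (a := t) (by rw [← h1, mul_one])

/-- the elements `c` with `c² = 1`, `tᶜ = t v`, `[c, C_K(v)] = 1` are `a_v` and `b_v`, if `Z(C_K(v)) = ⟨v⟩` -/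
theorem eq_or (h : Fam t K D a) {v c : G} (hv : v ∈ D) (hv1 : v ≠ 1) (hc : c * c = 1)
    (hct : c * t * c = t * v) (hcf : ∀ k ∈ K, k * v = v * k → k * c = c * k)
    (hZ : ∀ z ∈ K, z * v = v * z → (∀ k ∈ K, k * v = v * k → z * k = k * z) → z = 1 ∨ z = v) :
    c = a v ∨ c = b a v := by
  have e1 : c * a v * t = t * (c * a v) := by
    have h1 : a v * t = t * v * a v := by rw [← h.swap v hv, mul_assoc, h.aa v hv, mul_one]
    have h2 : c * t = t * v * c := by rw [← hct, mul_assoc, hc, mul_one]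
    have h3 : v * c = c * v := hcf v (h.DK v hv) rfl
    calc c * a v * t = c * (a v * t) := by group
      _ = c * t * (v * a v) := by rw [h1]; group
      _ = t * (v * c * v) * a v := by rw [h2]; group
      _ = t * c * (v * v) * a v := by rw [h3]; group
      _ = t * (c * a v) := by rw [h.sq v hv]; group
  have e2 : ∀ k ∈ K, k * v = v * k → c * a v * k = k * (c * a v) := by
    intro k hk hkv
    calc c * a v * k = c * (a v * k) := by group
      _ = c * k * a v := by rw [← h.fix v hv k hk hkv]; group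
      _ = k * (c * a v) := by rw [← hcf k hk hkv]; group
  have e3 : a v * (c * a v) * a v = (c * a v)⁻¹ := by
    rw [mul_inv_rev, inv_eq_of_mul_eq_one_right hc, inv_eq_of_mul_eq_one_right (h.aa v hv)]
    calc a v * (c * a v) * a v = a v * c * (a v * a v) := by group
      _ = a v * c := by rw [h.aa v hv, mul_one]
  have key : ∀ z : G, z = 1 ∨ z = v → c * a v = z → c = a v ∨ c = b a v := by
    intro z hz e
    have h1 : c = z * a v := by rw [← e, mul_assoc, h.aa v hv, mul_one]
    rcases hz with rfl | rfl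
    · exact Or.inl (by rw [h1, one_mul])
    · refine Or.inr ?_
      unfold b
      rw [h1, h.av hv]
  rcases h.cen _ e1 with h1 | h1
  · exact key _ (hZ _ h1 (e2 v (h.DK v hv) rfl) fun k hk hkv => e2 k hk hkv) rfl
  · exfalso
    have h2 : t * (c * a v) * v = v * (t * (c * a v)) := by
      calc t * (c * a v) * v = t * (c * a v * v) := by group
        _ = t * v * (c * a v) := by rw [e2 v (h.DK v hv) rfl]; group
        _ = v * (t * (c * a v)) := by rw [← h.comm v (h.DK v hv)]; group
    have h3 : t * (c * a v) = 1 ∨ t * (c * a v) = v := by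
      refine hZ _ h1 h2 fun k hk hkv => ?_
      calc t * (c * a v) * k = t * (c * a v * k) := by group
        _ = t * k * (c * a v) := by rw [e2 k hk hkv]; group
        _ = k * (t * (c * a v)) := by rw [← h.comm k hk]; group
    -- `c a_v = t` or `t v`: then `c` inverts it and `a_v` does
    have h4 : c * a v = t ∨ c * a v = t * v := by
      rcases h3 with e | e
      · left
        calc c * a v = t * t * (c * a v) := by rw [h.tt, one_mul]
          _ = t * (t * (c * a v)) := by group
          _ = t := by rw [e, mul_one]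
      · right
        calc c * a v = t * t * (c * a v) := by rw [h.tt, one_mul]
          _ = t * (t * (c * a v)) := by group
          _ = t * v := by rw [e]
    have h5 : (c * a v) * (c * a v) = 1 := by
      rcases h4 with e | e
      · rw [e, h.tt]
      · rw [e]
        calc t * v * (t * v) = t * (v * t) * v := by group
          _ = t * t * (v * v) := by rw [h.comm v (h.DK v hv)]; group
          _ = 1 := by rw [h.tt, h.sq v hv, one_mul]
    have h6 : a v * (c * a v) = c * a v * a v := by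
      have h7 : (c * a v)⁻¹ = c * a v := inv_eq_of_mul_eq_one_right h5
      rw [h7] at e3
      calc a v * (c * a v) = a v * (c * a v) * (a v * a v) := by rw [h.aa v hv, mul_one]
        _ = a v * (c * a v) * a v * a v := by group
        _ = c * a v * a v := by rw [e3]
    rcases h4 with e | e
    · rw [e] at h6
      exact h.not_comm_t hv hv1 h6
    · rw [e] at h6
      apply h.not_comm_t hv hv1
      have h8 : a v * t * v = t * a v * v := by
        calc a v * t * v = a v * (t * v) := by group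
          _ = t * (v * a v) := by rw [h6]; group
          _ = t * a v * v := by rw [h.av hv]; group
      exact mul_right_cancel h8

/-! ### commuting pairs -/

/-- a line: `a_{vw} = a_v a_w` -/
theorem line_comm (h : Fam t K D a) {v w : G} (hv : v ∈ D) (hw : w ∈ D) (hvw : v * w ∈ D)
    (e : a (v * w) = a v * a w) : a v * a w = a w * a v := by
  have h1 := h.aa _ hvw
  rw [e] at h1
  have h2 := mul_eq_one_iff_eq_inv.1 h1
  rw [mul_inv_rev, inv_eq_of_mul_eq_one_right (h.aa v hv), inv_eq_of_mul_eq_one_right (h.aa w hw)] at h2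
  exact h2

theorem b_line (h : Fam t K D a) {v w : G} (hv : v ∈ D) (hw : w ∈ D) (hc : v * w = w * v)
    (e : a (v * w) = a v * a w) : b a (v * w) = b a v * b a w := by
  unfold b
  rw [e]
  calc a v * a w * (v * w) = a v * (a w * v) * w := by group
    _ = a v * (v * a w) * w := by rw [h.fix w hw v (h.DK v hv) hc]
    _ = a v * v * (a w * w) := by group

theorem good_of_comm (h : Fam t K D a) {v w : G} (hv : v ∈ D) (hw : w ∈ D) (hc : v * w = w * v)
    (e : a v * a w = a w * a v) : Good a v w := by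
  unfold Good b
  calc a v * (a w * w) = a v * a w * w := by group
    _ = a w * (a v * w) := by rw [e]; group
    _ = a w * (w * a v) := by rw [h.fix v hv w (h.DK w hw) hc.symm]
    _ = a w * w * a v := by group

theorem good_of_line (h : Fam t K D a) {v w : G} (hv : v ∈ D) (hw : w ∈ D) (hvw : v * w ∈ D)
    (hc : v * w = w * v) (e : a (v * w) = a v * a w) : Good a v w :=
  h.good_of_comm hv hw hc (h.line_comm hv hw hvw e)

theorem good_self (h : Fam t K D a) {v : G} (hv : v ∈ D) : Good a v v := by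
  unfold Good
  rw [h.mul_b hv, h.b_mul hv]

theorem good_symm (h : Fam t K D a) {v w : G} (hv : v ∈ D) (hw : w ∈ D) (e : Good a v w) :
    Good a w v := by
  unfold Good at e ⊢
  calc a w * b a v = t * b a w * t * (t * a v * t) := by rw [h.conj_t hv, h.conj_t' hw]
    _ = t * b a w * (t * t) * a v * t := by group
    _ = t * (b a w * a v) * t := by rw [h.tt]; group
    _ = t * (a v * b a w) * t := by rw [e]
    _ = t * a v * 1 * b a w * t := by group
    _ = t * a v * (t * t) * b a w * t := by rw [h.tt]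
    _ = t * a v * t * (t * b a w * t) := by group
    _ = b a v * a w := by rw [h.conj_t hv, h.conj_t' hw]

theorem good_iff (h : Fam t K D a) {v w : G} (hv : v ∈ D) (hw : w ∈ D) :
    Good a v w ↔ F a v w = 1 := by
  unfold Good F
  rw [mul_eq_one_iff_eq_inv, mul_inv_rev, inv_eq_of_mul_eq_one_right (h.aa v hv),
    inv_eq_of_mul_eq_one_right (h.bb hw)]

theorem F_mem_of_good (h : Fam t K D a) {v w : G} (hv : v ∈ D) (hw : w ∈ D) (e : Good a v w) :
    F a v w ∈ K := by
  rw [(h.good_iff hv hw).1 e]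
  exact one_mem _

theorem good_conj (h : Fam t K D a) {v w k : G} (hv : v ∈ D) (hw : w ∈ D) (hk : k ∈ K)
    (e : Good a v w) : Good a (k * v * k⁻¹) (k * w * k⁻¹) := by
  unfold Good at e ⊢
  rw [h.eqv v hv k hk, h.dual.eqv w hw k hk]
  calc k * a v * k⁻¹ * (k * b a w * k⁻¹) = k * (a v * b a w) * k⁻¹ := by group
    _ = k * b a w * k⁻¹ * (k * a v * k⁻¹) := by rw [e]; group

/-- **R1** -/
theorem good_mul (h : Fam t K D a) {v w₁ w₂ : G} (h1 : w₁ ∈ D) (h2 : w₂ ∈ D)
    (hc : w₁ * w₂ = w₂ * w₁) (e : a (w₁ * w₂) = a w₁ * a w₂) (g1 : Good a v w₁) (g2 : Good a v w₂) :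
    Good a v (w₁ * w₂) := by
  unfold Good at g1 g2 ⊢
  rw [h.b_line h1 h2 hc e]
  calc a v * (b a w₁ * b a w₂) = a v * b a w₁ * b a w₂ := by group
    _ = b a w₁ * (a v * b a w₂) := by rw [g1]; group
    _ = b a w₁ * b a w₂ * a v := by rw [g2]; group

/-- **R2** -/
theorem good_conj' (h : Fam t K D a) {v w₁ w₂ : G} (h1 : w₁ ∈ D) (h2 : w₂ ∈ D)
    (g1 : Good a v w₁) (g2 : Good a v w₂) (g : Good a w₁ w₂) : Good a v (w₁ * w₂ * w₁⁻¹) := by
  unfold Good at g1 g2 g ⊢
  have h3 : b a (w₁ * w₂ * w₁⁻¹) = b a w₁ * b a w₂ * b a w₁ := by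
    rw [h.dual.eqv w₂ h2 w₁ (h.DK _ h1), inv_eq_of_mul_eq_one_right (h.sq _ h1)]
    calc w₁ * b a w₂ * w₁ = b a w₁ * a w₁ * b a w₂ * (a w₁ * b a w₁) := by rw [h.mul_b h1, h.b_mul h1]
      _ = b a w₁ * (a w₁ * b a w₂) * a w₁ * b a w₁ := by group
      _ = b a w₁ * b a w₂ * (a w₁ * a w₁) * b a w₁ := by rw [g]; group
      _ = b a w₁ * b a w₂ * b a w₁ := by rw [h.aa _ h1, mul_one]
  rw [h3]
  calc a v * (b a w₁ * b a w₂ * b a w₁) = a v * b a w₁ * b a w₂ * b a w₁ := by group
    _ = b a w₁ * (a v * b a w₂) * b a w₁ := by rw [g1]; group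
    _ = b a w₁ * b a w₂ * (a v * b a w₁) := by rw [g2]; group
    _ = b a w₁ * b a w₂ * b a w₁ * a v := by rw [g1]; group

/-- a commuting pair `v, w` with `[a_v, a_w] = 1` is a line, if some `ρ ∈ K` cycles `v → w → v w → v` and only `1`
commutes with `ρ`, `v`, `w` and `C_K(v, w)` among the involutions of `K` commuting with all these -/
theorem line_of_comm (h : Fam t K D a) {v w ρ : G} (hv : v ∈ D) (hw : w ∈ D) (hvw : v * w ∈ D)
    (hv1 : v ≠ 1) (hc : v * w = w * v) (e : a v * a w = a w * a v) (hρ : ρ ∈ K)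
    (r1 : ρ * v * ρ⁻¹ = w) (r2 : ρ * w * ρ⁻¹ = v * w)
    (hK : ∀ k ∈ K, k * k = 1 → k * v = v * k → k * w = w * k → ρ * k = k * ρ →
      (∀ c ∈ K, c * v = v * c → c * w = w * c → c * k = k * c) → k = 1) :
    a (v * w) = a v * a w := by
  have wK := h.DK w hw
  have vK := h.DK v hv
  have av := h.aa v hv
  have aw := h.aa w hw
  have au := h.aa _ hvw
  -- `a_{vw}` commutes with `a_v` and `a_w`, by `ρ`
  have q1 : ρ * a v * ρ⁻¹ = a w := by rw [← h.eqv v hv ρ hρ, r1]
  have q2 : ρ * a w * ρ⁻¹ = a (v * w) := by rw [← h.eqv w hw ρ hρ, r2]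
  have r3 : ρ * (v * w) * ρ⁻¹ = v := by
    calc ρ * (v * w) * ρ⁻¹ = ρ * v * ρ⁻¹ * (ρ * w * ρ⁻¹) := by group
      _ = w * v * w := by rw [r1, r2]; group
      _ = v * (w * w) := by rw [← hc]; group
      _ = v := by rw [h.sq w hw, mul_one]
  have q3 : ρ * a (v * w) * ρ⁻¹ = a v := by rw [← h.eqv _ hvw ρ hρ, r3]
  have cjc : ∀ p q : G, p * q = q * p → ρ * p * ρ⁻¹ * (ρ * q * ρ⁻¹) = ρ * q * ρ⁻¹ * (ρ * p * ρ⁻¹) := by
    intro p q hpq
    calc ρ * p * ρ⁻¹ * (ρ * q * ρ⁻¹) = ρ * (p * q) * ρ⁻¹ := by group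
      _ = ρ * q * ρ⁻¹ * (ρ * p * ρ⁻¹) := by rw [hpq]; group
  have e2 : a w * a (v * w) = a (v * w) * a w := by
    have h1 := cjc _ _ e
    rw [q1, q2] at h1
    exact h1
  have e3 : a (v * w) * a v = a v * a (v * w) := by
    have h1 := cjc _ _ e2
    rw [q2, q3] at h1
    exact h1
  set f := a v * a w * a (v * w) with hf
  have f2 : f * f = 1 := by
    rw [hf]
    calc a v * a w * a (v * w) * (a v * a w * a (v * w))
        = a v * a w * (a (v * w) * a v) * a w * a (v * w) := by group
      _ = a v * (a w * a v) * (a (v * w) * a w) * a (v * w) := by rw [e3]; group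
      _ = a v * a v * (a w * a w) * (a (v * w) * a (v * w)) := by rw [← e, ← e2]; group
      _ = 1 := by rw [av, aw, au, one_mul, one_mul]
  have tv : a v * t = t * v * a v := by rw [← h.swap v hv, mul_assoc, av, mul_one]
  have tw : a w * t = t * w * a w := by rw [← h.swap w hw, mul_assoc, aw, mul_one]
  have tu : a (v * w) * t = t * (v * w) * a (v * w) := by rw [← h.swap _ hvw, mul_assoc, au, mul_one]
  have wav : w * a v = a v * w := h.fix v hv w wK hc.symm
  have vaw : v * a w = a w * v := h.fix w hw v vK hc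
  have vau : v * a (v * w) = a (v * w) * v := h.fix _ hvw v vK (by rw [hc, ← mul_assoc, hc, mul_assoc])
  have wau : w * a (v * w) = a (v * w) * w := h.fix _ hvw w wK (by rw [← mul_assoc, ← hc])
  have vv := h.sq v hv
  have ww := h.sq w hw
  have tf : f * t = t * f := by
    calc f * t = a v * a w * (a (v * w) * t) := by rw [hf]; group
      _ = a v * (a w * t) * (v * w) * a (v * w) := by rw [tu]; group
      _ = a v * t * w * (a w * v) * w * a (v * w) := by rw [tw]; group
      _ = a v * t * w * v * (a w * w) * a (v * w) := by rw [← vaw]; group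
      _ = a v * t * w * v * (w * a w) * a (v * w) := by rw [h.av hw]
      _ = a v * t * w * (v * w) * a w * a (v * w) := by group
      _ = a v * t * (w * w) * v * a w * a (v * w) := by rw [hc]; group
      _ = a v * t * v * a w * a (v * w) := by rw [ww, mul_one]
      _ = t * v * (a v * v) * a w * a (v * w) := by rw [tv]; group
      _ = t * (v * v) * a v * a w * a (v * w) := by rw [← h.av hv]; group
      _ = t * f := by rw [vv, hf]; group
  have cf : ∀ c ∈ K, c * v = v * c → c * w = w * c → c * f = f * c := by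
    intro c hc cv cw
    have h1 := h.fix v hv c hc cv
    have h2 := h.fix w hw c hc cw
    have h3 := h.fix _ hvw c hc (by rw [← mul_assoc, cv, mul_assoc, cw, mul_assoc])
    calc c * f = c * a v * a w * a (v * w) := by rw [hf]; group
      _ = a v * (c * a w) * a (v * w) := by rw [h1]; group
      _ = a v * a w * (c * a (v * w)) := by rw [h2]; group
      _ = f * c := by rw [h3, hf]; group
  have avf : a v * f = f * a v := by
    rw [hf]
    calc a v * (a v * a w * a (v * w)) = a v * (a v * a w) * a (v * w) := by group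
      _ = a v * (a w * a v) * a (v * w) := by rw [e]
      _ = a v * a w * (a v * a (v * w)) := by group
      _ = a v * a w * a (v * w) * a v := by rw [← e3]; group
  have fin : f = 1 → a (v * w) = a v * a w := by
    intro h1
    have h2 : a v * a w = (a (v * w))⁻¹ := mul_eq_one_iff_eq_inv.1 h1
    rw [h2, inv_eq_of_mul_eq_one_right au]
  rcases h.cen f tf with h1 | h1
  · refine fin (hK f h1 f2 (cf v vK rfl hc).symm (cf w wK hc.symm rfl).symm ?_ cf)
    have h2 : ρ * f * ρ⁻¹ = f := by
      calc ρ * f * ρ⁻¹ = ρ * a v * ρ⁻¹ * (ρ * a w * ρ⁻¹) * (ρ * a (v * w) * ρ⁻¹) := by rw [hf]; group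
        _ = a w * a (v * w) * a v := by rw [q1, q2, q3]
        _ = a v * a w * a (v * w) := by rw [mul_assoc, e3, ← mul_assoc, e]
        _ = f := hf.symm
    calc ρ * f = ρ * f * ρ⁻¹ * ρ := by group
      _ = f * ρ := by rw [h2]
  · exfalso
    -- `f = t k`, `a_v` commutes with `f` and with `k`
    have kv : t * f * v = v * (t * f) := by
      calc t * f * v = t * (f * v) := by group
        _ = t * v * f := by rw [← cf v vK rfl hc]; group
        _ = v * (t * f) := by rw [← h.comm v vK]; group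
    have h2 := h.fix v hv _ h1 kv
    apply h.not_comm_t hv hv1
    have h3 : t * a v * f = a v * t * f := by
      calc t * a v * f = t * (a v * f) := by group
        _ = t * f * a v := by rw [avf]; group
        _ = a v * t * f := by rw [h2]; group
    exact (mul_right_cancel h3).symm

/-! ### pairs of order 4 -/

/-- the word identity behind (N0) -/
theorem word (v w A B C : G) (vv : v * v = 1) (ww : w * w = 1) (hv : v * A = A * v) (hw : w * B = B * w)
    (hvC : v * C = C * v) (CC : C * C = 1) (hCA : C * A = A * C) (hCB : C * B = B * C)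
    (hwA : w * A = A * C * w) (hvB : v * B = B * C * v) :
    A * v * B * (A * v * B) = A * (B * w) * (A * (B * w)) := by
  have h1 : A * v * B * (A * v * B) = A * B * A * B * C := by
    calc A * v * B * (A * v * B) = A * (v * B) * A * (v * B) := by group
      _ = A * B * C * (v * A) * B * C * v := by rw [hvB]; group
      _ = A * B * C * A * (v * B) * C * v := by rw [hv]; group
      _ = A * B * C * A * B * C * (v * C) * v := by rw [hvB]; group
      _ = A * B * C * A * B * (C * C) * (v * v) := by rw [hvC]; group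
      _ = A * B * (C * A) * B := by rw [CC, vv]; group
      _ = A * B * A * (C * B) := by rw [hCA]; group
      _ = A * B * A * B * C := by rw [hCB]; group
  have h2 : A * (B * w) * (A * (B * w)) = A * B * A * B * C := by
    calc A * (B * w) * (A * (B * w)) = A * B * (w * A) * B * w := by group
      _ = A * B * A * C * (w * B) * w := by rw [hwA]; group
      _ = A * B * A * (C * B) * (w * w) := by rw [hw]; group
      _ = A * B * A * B * C := by rw [hCB, ww]; group
  rw [h1, h2]

/-- **(N0)**: `v w` of order 4 (`x = (v w)²`), the lines `(v, x)` and `(w, x)` exact. Then `F v w ∈ K`, its square is 1, it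
commutes with `v`, `w` and `C_K(v, w)`. -/
theorem F_mem (h : Fam t K D a) {v w x : G} (hv : v ∈ D) (hw : w ∈ D) (hx : x ∈ D)
    (ex : v * w * (v * w) = x) (hx1 : x ≠ 1) (hvx : v * x = x * v) (hwx : w * x = x * w)
    (lv : a (v * x) = a v * a x) (lw : a (w * x) = a w * a x) (mv : v * x ∈ D) (mw : w * x ∈ D) :
    F a v w ∈ K ∧ F a v w * F a v w = 1 ∧ F a v w * v = v * F a v w ∧ F a v w * w = w * F a v w ∧
      ∀ c ∈ K, c * v = v * c → c * w = w * c → c * F a v w = F a v w * c := by
  have vv := h.sq v hv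
  have ww := h.sq w hw
  have vi : v⁻¹ = v := inv_eq_of_mul_eq_one_right vv
  have wi : w⁻¹ = w := inv_eq_of_mul_eq_one_right ww
  -- `w v w = v x`, `v w v = w x`
  have e1 : w * v * w⁻¹ = v * x := by
    rw [wi, ← ex]
    calc w * v * w = v * v * w * v * w := by rw [vv, one_mul]
      _ = v * (v * w * (v * w)) := by group
  have e2 : v * w * v⁻¹ = w * x := by
    have h1 : v * w = x * (w * v) := by
      rw [← ex]
      calc v * w = v * w * v * (w * w) * v := by rw [ww, mul_one, mul_assoc (v * w), vv, mul_one]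
        _ = v * w * (v * w) * (w * v) := by group
    rw [vi, h1]
    calc x * (w * v) * v = x * w * (v * v) := by group
      _ = w * x := by rw [vv, mul_one, hwx]
  have wA : w * a v = a v * a x * w := by
    have h1 := h.eqv v hv w (h.DK w hw)
    rw [e1, lv] at h1
    rw [h1]; group
  have vB : v * a w = a w * a x * v := by
    have h1 := h.eqv w hw v (h.DK v hv)
    rw [e2, lw] at h1
    rw [h1]; group
  have vC : v * a x = a x * v := h.fix x hx v (h.DK v hv) hvx
  have CA : a x * a v = a v * a x := (h.line_comm hv hx mv lv).symm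
  have CB : a x * a w = a w * a x := (h.line_comm hw hx mw lw).symm
  have tF : F a v w * t = t * F a v w := by
    have h1 : t * F a v w * t = F a v w := by
      unfold F
      calc t * (a v * b a w * (a v * b a w)) * t
          = t * a v * 1 * b a w * 1 * a v * 1 * b a w * t := by group
        _ = t * a v * (t * t) * b a w * (t * t) * a v * (t * t) * b a w * t := by rw [h.tt]
        _ = t * a v * t * (t * b a w * t) * (t * a v * t * (t * b a w * t)) := by group
        _ = b a v * a w * (b a v * a w) := by rw [h.conj_t hv, h.conj_t' hw]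
        _ = a v * (a w * w) * (a v * (a w * w)) :=
          word v w (a v) (a w) (a x) vv ww (h.av hv) (h.av hw) vC (h.aa x hx) CA CB wA vB
        _ = _ := rfl
    calc F a v w * t = t * F a v w * t * t := by rw [h1]
      _ = t * F a v w * (t * t) := by group
      _ = t * F a v w := by rw [h.tt, mul_one]
  have cF : ∀ c ∈ K, c * v = v * c → c * w = w * c → c * F a v w = F a v w * c := by
    intro c hc cv cw
    have h1 : c * a v = a v * c := h.fix v hv c hc cv
    have h2 : c * b a w = b a w * c := h.dual.fix w hw c hc cw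
    unfold F
    calc c * (a v * b a w * (a v * b a w)) = c * a v * b a w * (a v * b a w) := by group
      _ = a v * (c * b a w) * (a v * b a w) := by rw [h1]; group
      _ = a v * b a w * (c * a v) * b a w := by rw [h2]; group
      _ = a v * b a w * a v * (c * b a w) := by rw [h1]; group
      _ = a v * b a w * (a v * b a w) * c := by rw [h2]; group
  -- `a_v` and `b_w` invert `F`
  have i1 : a v * F a v w * a v * F a v w = 1 := by
    unfold F
    calc a v * (a v * b a w * (a v * b a w)) * a v * (a v * b a w * (a v * b a w))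
        = a v * a v * b a w * a v * b a w * (a v * a v) * b a w * (a v * b a w) := by group
      _ = b a w * a v * (b a w * b a w) * (a v * b a w) := by rw [h.aa v hv]; group
      _ = b a w * (a v * a v) * b a w := by rw [h.bb hw]; group
      _ = 1 := by rw [h.aa v hv, mul_one, h.bb hw]
  have i2 : b a w * F a v w * b a w * F a v w = 1 := by
    unfold F
    calc b a w * (a v * b a w * (a v * b a w)) * b a w * (a v * b a w * (a v * b a w))
        = b a w * a v * b a w * a v * (b a w * b a w) * a v * b a w * (a v * b a w) := by group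
      _ = b a w * a v * b a w * (a v * a v) * b a w * (a v * b a w) := by rw [h.bb hw]; group
      _ = b a w * a v * (b a w * b a w) * (a v * b a w) := by rw [h.aa v hv]; group
      _ = b a w * (a v * a v) * b a w := by rw [h.bb hw]; group
      _ = 1 := by rw [h.aa v hv, mul_one, h.bb hw]
  have key : F a v w ∈ K → F a v w * F a v w = 1 ∧ F a v w * v = v * F a v w ∧
      F a v w * w = w * F a v w := by
    intro hF
    have h1 : a v * F a v w * a v = (F a v w)⁻¹ := eq_inv_of_mul_eq_one_left i1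
    have h2 : b a w * F a v w * b a w = (F a v w)⁻¹ := eq_inv_of_mul_eq_one_left i2
    have h3 := h.mem_comm hv hF (by rw [h1]; exact inv_mem hF)
    have h4 := h.mem_comm' hw hF (by rw [h2]; exact inv_mem hF)
    refine ⟨?_, h3, h4⟩
    have h5 := h.fix v hv _ hF h3
    rw [← h5] at h1
    rw [mul_assoc, h.aa v hv, mul_one] at h1
    exact mul_eq_one_iff_eq_inv.2 h1
  rcases h.cen _ tF with hF | hF
  · obtain ⟨h1, h2, h3⟩ := key hF
    exact ⟨hF, h1, h2, h3, cF⟩
  · exfalso
    set k := t * F a v w with hk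
    have eF : F a v w = t * k := by
      rw [hk, ← mul_assoc, h.tt, one_mul]
    have tk : k * t = t * k := h.comm k hF
    -- `c k c = u k⁻¹` for `(c, u) = (a_v, v), (b_w, w)`
    have sub : ∀ (u c : G), u * u = 1 → c * t * c = t * u → c * c = 1 →
        c * F a v w * c * F a v w = 1 → c * k * c = u * k⁻¹ := by
      intro u c hu h1 hcc h2
      have h3 : t * u * (c * k * c) * (t * k) = 1 := by
        rw [← h2, eF]
        calc t * u * (c * k * c) * (t * k) = c * t * c * (c * k * c) * (t * k) := by rw [h1]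
          _ = c * t * (c * c) * k * c * (t * k) := by group
          _ = c * (t * k) * c * (t * k) := by rw [hcc]; group
      have h4 : u * (c * k * c) * k = 1 := by
        have h5 : t * (u * (c * k * c)) * (k * t) = 1 := by
          rw [tk]
          calc t * (u * (c * k * c)) * (t * k) = t * u * (c * k * c) * (t * k) := by group
            _ = 1 := h3
        calc u * (c * k * c) * k = t * t * (u * (c * k * c) * k) * (t * t) := by
              rw [h.tt, one_mul, mul_one]
          _ = t * (t * (u * (c * k * c)) * (k * t)) * t := by group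
          _ = 1 := by rw [h5, mul_one, h.tt]
      calc c * k * c = u * u * (c * k * c) * k * k⁻¹ := by rw [hu]; group
        _ = u * (u * (c * k * c) * k) * k⁻¹ := by group
        _ = u * k⁻¹ := by rw [h4, mul_one]
    have fin : ∀ (u c : G), u ∈ K → (c * k * c ∈ K → k * c = c * k) → c * c = 1 → c * k * c = u * k⁻¹ →
        k * k = u := by
      intro u c hu h1 hcc h2
      have h3 := h1 (by rw [h2]; exact mul_mem hu (inv_mem hF))
      have h4 : c * k * c = k := by rw [← h3, mul_assoc, hcc, mul_one]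
      rw [h4] at h2
      calc k * k = u * k⁻¹ * k := by rw [← h2]
        _ = u := by group
    have k1 : k * k = v := fin v (a v) (h.DK v hv) (fun e => h.fix v hv k hF (h.mem_comm hv hF e)) (h.aa v hv)
      (sub v (a v) vv (h.swap v hv) (h.aa v hv) i1)
    have k2 : k * k = w := fin w (b a w) (h.DK w hw) (fun e => h.dual.fix w hw k hF (h.mem_comm' hw hF e))
      (h.bb hw) (sub w (b a w) ww (h.dual.swap w hw) (h.bb hw) i2)
    apply hx1
    rw [← ex, ← k2, k1, vv, one_mul]

/-- **(N1)**, the norm lemma -/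
theorem norm_comm (h : Fam t K D a) {v w₁ w₂ : G} (hv : v ∈ D) (h1 : w₁ ∈ D) (h2 : w₂ ∈ D)
    (h12 : w₁ * w₂ ∈ D) (hc : w₁ * w₂ = w₂ * w₁) (e : a (w₁ * w₂) = a w₁ * a w₂)
    (f1 : F a v w₁ ∈ K) (f2 : F a v w₂ ∈ K) (f : F a v (w₁ * w₂) ∈ K) :
    F a v w₂ * w₁ = w₁ * F a v w₂ := by
  have hb := h.b_line h1 h2 hc e
  have hbc : b a w₁ * b a w₂ = b a w₂ * b a w₁ := h.dual.line_comm h1 h2 h12 hb
  have key : F a v (w₁ * w₂) = F a v w₁ * (b a w₁ * F a v w₂ * b a w₁) := by
    unfold F
    rw [hb]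
    calc a v * (b a w₁ * b a w₂) * (a v * (b a w₁ * b a w₂))
        = a v * b a w₁ * b a w₂ * a v * (b a w₁ * b a w₂) := by group
      _ = a v * b a w₁ * b a w₂ * a v * (b a w₂ * b a w₁) := by rw [hbc]
      _ = a v * b a w₁ * 1 * b a w₂ * (a v * b a w₂) * b a w₁ := by group
      _ = a v * b a w₁ * (a v * a v) * b a w₂ * (a v * b a w₂) * b a w₁ := by rw [h.aa v hv]
      _ = a v * b a w₁ * a v * 1 * (a v * b a w₂ * (a v * b a w₂)) * b a w₁ := by group
      _ = a v * b a w₁ * a v * (b a w₁ * b a w₁) * (a v * b a w₂ * (a v * b a w₂)) * b a w₁ := by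
          rw [h.bb h1]
      _ = _ := by group
  refine h.mem_comm' h1 f2 ?_
  have h3 : b a w₁ * F a v w₂ * b a w₁ = (F a v w₁)⁻¹ * F a v (w₁ * w₂) := by rw [key]; group
  rw [h3]
  exact mul_mem (inv_mem f1) f

/-- `F v w = 1` as soon as no nontrivial involution of `K` commutes with all the elements of `X` -/
theorem good_of_cen (h : Fam t K D a) {v w : G} (hv : v ∈ D) (hw : w ∈ D) (X : Set G)
    (f : F a v w ∈ K) (ff : F a v w * F a v w = 1) (hX : ∀ c ∈ X, c * F a v w = F a v w * c)
    (hK : ∀ k ∈ K, k * k = 1 → (∀ c ∈ X, c * k = k * c) → k = 1) : Good a v w :=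
  (h.good_iff hv hw).2 (hK _ f ff hX)

/-! ### the end -/

/-- **the generating clique**: `D₀ ⊆ D` pairwise good, generating `K` -/
theorem wr_of_clique (h : Fam t K D a) {D₀ : Set G} (hD : ∀ v ∈ D₀, v ∈ D)
    (hg : ∀ v ∈ D₀, ∀ w ∈ D₀, Good a v w) (hK : closure D₀ = K)
    (hZ : ∀ z ∈ K, (∀ k ∈ K, z * k = k * z) → z = 1) (nab : ∃ x ∈ K, ∃ y ∈ K, x * y ≠ y * x) :
    Wreath.Wr t K (closure (a '' D₀)) := by
  refine Wreath.wr_of h.tt hK ?_ ?_ ?_ nab
  · intro v hv
    rw [h.conj_t (hD v hv)]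
    exact h.mul_b (hD v hv)
  · intro v hv w hw
    rw [h.conj_t (hD w hw)]
    exact hg v hv w hw
  · intro g hgt hgK
    rcases h.cen g hgt with h1 | h1
    · exact Or.inl (hZ g h1 hgK)
    · right
      have h2 : t * g = 1 := by
        refine hZ _ h1 fun k hk => ?_
        calc t * g * k = t * (g * k) := by group
          _ = t * k * g := by rw [hgK k hk]; group
          _ = k * (t * g) := by rw [← h.comm k hk]; group
      calc g = t * t * g := by rw [h.tt, one_mul]
        _ = t * (t * g) := by group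
        _ = t := by rw [h2, mul_one]

/-- **the end**: a generating clique gives a homomorphism onto `{1, -1}` which is `-1` on `t` -/
theorem exists_hom_of_clique [Finite G] (h : Fam t K D a) {D₀ : Set G} (hD : ∀ v ∈ D₀, v ∈ D)
    (hg : ∀ v ∈ D₀, ∀ w ∈ D₀, Good a v w) (hK : closure D₀ = K)
    (hZ : ∀ z ∈ K, (∀ k ∈ K, z * k = k * z) → z = 1) (nab : ∃ x ∈ K, ∃ y ∈ K, x * y ≠ y * x) :
    ∃ m : G →* ℤˣ, m t = -1 :=
  (h.wr_of_clique hD hg hK hZ nab).exists_hom h.cen

end Fam

/-! ### existence -/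

/-- one element `e` with `e² = 1`, `tᵉ = t z`, `[e, C_K(z)] = 1` gives a family on the class of `z` -/
theorem exists_fam {t z e : G} {K : Subgroup G} (tt : t * t = 1) (tK : t ∉ K)
    (comm : ∀ k ∈ K, k * t = t * k) (cen : ∀ g : G, g * t = t * g → g ∈ K ∨ t * g ∈ K) (hz : z ∈ K)
    (zz : z * z = 1) (ee : e * e = 1) (et : e * t * e = t * z)
    (ez : ∀ k ∈ K, k * z = z * k → k * e = e * k) :
    ∃ a : G → G, Fam t K {v | ∃ k ∈ K, v = k * z * k⁻¹} a ∧ a z = e := by
  classical
  let a : G → G := fun v => if hv : ∃ k ∈ K, v = k * z * k⁻¹ then hv.choose * e * hv.choose⁻¹ else 1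
  have ha : ∀ k ∈ K, a (k * z * k⁻¹) = k * e * k⁻¹ := by
    intro k hk
    have hv : ∃ k' ∈ K, k * z * k⁻¹ = k' * z * k'⁻¹ := ⟨k, hk, rfl⟩
    have h1 : a (k * z * k⁻¹) = hv.choose * e * hv.choose⁻¹ := by
      simp only [a]
      rw [dif_pos hv]
    obtain ⟨h2, h3⟩ := hv.choose_spec
    rw [h1]
    set l := hv.choose
    have h4 : l⁻¹ * k * z = z * (l⁻¹ * k) := by
      calc l⁻¹ * k * z = l⁻¹ * (k * z * k⁻¹) * k := by group
        _ = z * (l⁻¹ * k) := by rw [h3]; group
    have h5 := ez _ (mul_mem (inv_mem h2) hk) h4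
    calc l * e * l⁻¹ = l * (e * (l⁻¹ * k)) * k⁻¹ := by group
      _ = k * e * k⁻¹ := by rw [← h5]; group
  have hz1 : a z = e := by
    have := ha 1 (one_mem _)
    simpa using this
  refine ⟨a, ⟨tt, tK, comm, cen, ?_, ?_, ?_, ?_, ?_, ?_, ?_⟩, hz1⟩
  · rintro _ ⟨k, hk, rfl⟩
    exact mul_mem (mul_mem hk hz) (inv_mem hk)
  · rintro _ ⟨k, hk, rfl⟩
    calc k * z * k⁻¹ * (k * z * k⁻¹) = k * (z * z) * k⁻¹ := by group
      _ = 1 := by rw [zz]; group
  · rintro _ ⟨k, hk, rfl⟩ l hl
    exact ⟨l * k, mul_mem hl hk, by group⟩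
  · rintro _ ⟨k, hk, rfl⟩
    rw [ha k hk]
    calc k * e * k⁻¹ * (k * e * k⁻¹) = k * (e * e) * k⁻¹ := by group
      _ = 1 := by rw [ee]; group
  · rintro _ ⟨k, hk, rfl⟩
    rw [ha k hk]
    have h1 : k⁻¹ * t = t * k⁻¹ := comm _ (inv_mem hk)
    calc k * e * k⁻¹ * t * (k * e * k⁻¹) = k * e * (k⁻¹ * t) * k * e * k⁻¹ := by group
      _ = k * (e * t * e) * k⁻¹ := by rw [h1]; group
      _ = k * t * z * k⁻¹ := by rw [et]; group
      _ = t * (k * z * k⁻¹) := by rw [comm k hk]; group
  · rintro _ ⟨k, hk, rfl⟩ l hl hc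
    rw [ha k hk]
    have h1 : k⁻¹ * l * k * z = z * (k⁻¹ * l * k) := by
      calc k⁻¹ * l * k * z = k⁻¹ * (l * (k * z * k⁻¹)) * k := by group
        _ = z * (k⁻¹ * l * k) := by rw [hc]; group
    have h2 := ez _ (mul_mem (mul_mem (inv_mem hk) hl) hk) h1
    calc l * (k * e * k⁻¹) = k * (k⁻¹ * l * k * e) * k⁻¹ := by group
      _ = k * e * k⁻¹ * l := by rw [h2]; group
  · rintro _ ⟨k, hk, rfl⟩ l hl
    have h1 : l * (k * z * k⁻¹) * l⁻¹ = l * k * z * (l * k)⁻¹ := by group
    rw [h1, ha _ (mul_mem hl hk), ha k hk]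
    group

end Cfsg.Agent.OddHalf.D8.Phi

end

-- merged: Cfsg.Agent.OddHalf.D8.Phi.Lines
section

/-!
# ODD half, D8: exactness of lines up to a bit, twisted pairs of order 4 (helper879)

For an equivariant family (`Phi/Gen.lean`):

* `dl a p q = a_p a_q a_{pq}`, the defect of a line; it commutes with `t` and with `C_K(p, q)` (`dl_comm_t`, `dl_cen`);
* `dl_assoc`: the cocycle identity of three members `u, w, v` of an elementary abelian group;
* `dl_cases`: if `ρ ∈ K` cycles `p → q → p q` and the centraliser in `K` of `C_K(p, q)` is `⟨p, q, y⟩`, `[ρ, y] = 1`, then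
  the defect is `1`, `y`, `t q` or `t q y`;
* `tFt`: if `v w` has order 4, `x = (v w)²` and `a_{vx} = ζ a_v a_x`, `a_{wx} = η a_w a_x` with involutions (or 1) `ζ, η ∈ K`
  commuting with `v, w, x`, then `Fᵗ = η ζ F` for `F = [a_v, b_w]`;
* `F_mul`: `F v (r s) = F v r · (F v s)^{b_r}` for an exact line `(r, s)`.
-/

set_option autoImplicit false

namespace Cfsg.Agent.OddHalf.D8.Phi

variable {G : Type*} [Group G]

/-- the ordered pairs `(p, q)`, `(p', q')` are conjugate in `K` -/
def PC (K : Subgroup G) (p q p' q' : G) : Prop := ∃ g ∈ K, g * p * g⁻¹ = p' ∧ g * q * g⁻¹ = q'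

/-- the triples `(p, q, y)`, `(p', q', y')` are conjugate in `K` -/
def TC (K : Subgroup G) (p q y p' q' y' : G) : Prop :=
  ∃ g ∈ K, g * p * g⁻¹ = p' ∧ g * q * g⁻¹ = q' ∧ g * y * g⁻¹ = y'

/-- the defect of a line -/
def dl (a : G → G) (p q : G) : G := a p * a q * a (p * q)

namespace Fam

variable {t : G} {K : Subgroup G} {D : Set G} {a : G → G}

theorem D_PC (h : Fam t K D a) {p q p' q' : G} (e : PC K p q p' q') (hp : p ∈ D) : p' ∈ D := by
  obtain ⟨g, hg, rfl, _⟩ := e
  exact h.conj p hp g hg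

theorem D_PC' (h : Fam t K D a) {p q p' q' : G} (e : PC K p q p' q') (hq : q ∈ D) : q' ∈ D := by
  obtain ⟨g, hg, _, rfl⟩ := e
  exact h.conj q hq g hg

theorem D_PCm (h : Fam t K D a) {p q p' q' : G} (e : PC K p q p' q') (hpq : p * q ∈ D) : p' * q' ∈ D := by
  obtain ⟨g, hg, rfl, rfl⟩ := e
  have := h.conj _ hpq g hg
  rwa [show g * (p * q) * g⁻¹ = g * p * g⁻¹ * (g * q * g⁻¹) by group] at this

theorem comm_PC {p q p' q' : G} (e : PC K p q p' q') (hc : p * q = q * p) : p' * q' = q' * p' := by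
  obtain ⟨g, -, rfl, rfl⟩ := e
  calc g * p * g⁻¹ * (g * q * g⁻¹) = g * (p * q) * g⁻¹ := by group
    _ = g * q * g⁻¹ * (g * p * g⁻¹) := by rw [hc]; group

theorem F_conj (h : Fam t K D a) {v w g : G} (hv : v ∈ D) (hw : w ∈ D) (hg : g ∈ K) :
    F a (g * v * g⁻¹) (g * w * g⁻¹) = g * F a v w * g⁻¹ := by
  unfold F
  rw [h.eqv v hv g hg, h.dual.eqv w hw g hg]
  group

theorem dl_conj (h : Fam t K D a) {p q g : G} (hp : p ∈ D) (hq : q ∈ D) (hpq : p * q ∈ D) (hg : g ∈ K) :
    dl a (g * p * g⁻¹) (g * q * g⁻¹) = g * dl a p q * g⁻¹ := by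
  unfold dl
  rw [show g * p * g⁻¹ * (g * q * g⁻¹) = g * (p * q) * g⁻¹ by group, h.eqv p hp g hg, h.eqv q hq g hg,
    h.eqv _ hpq g hg]
  group

theorem a_t (h : Fam t K D a) {v : G} (hv : v ∈ D) : a v * t = t * v * a v := by
  rw [← h.swap v hv, mul_assoc, h.aa v hv, mul_one]

theorem dl_comm_t (h : Fam t K D a) {p q : G} (hp : p ∈ D) (hq : q ∈ D) (hpq : p * q ∈ D)
    (hc : p * q = q * p) : dl a p q * t = t * dl a p q := by
  have pK := h.DK p hp
  have qK := h.DK q hq
  have e1 : a q * p = p * a q := (h.fix q hq p pK hc).symm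
  have e2 : a p * q = q * a p := (h.fix p hp q qK hc.symm).symm
  have e3 : a (p * q) * p = p * a (p * q) := (h.fix _ hpq p pK (by rw [mul_assoc, hc])).symm
  unfold dl
  calc a p * a q * a (p * q) * t = a p * a q * (a (p * q) * t) := by group
    _ = a p * (a q * t) * (p * q) * a (p * q) := by rw [h.a_t hpq]; group
    _ = a p * t * q * (a q * p) * q * a (p * q) := by rw [h.a_t hq]; group
    _ = a p * t * (q * p) * (a q * q) * a (p * q) := by rw [e1]; group
    _ = a p * t * (p * q) * (q * a q) * a (p * q) := by rw [← hc, ← h.av hq]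
    _ = a p * t * p * (q * q) * a q * a (p * q) := by group
    _ = t * p * (a p * p) * a q * a (p * q) := by rw [h.sq q hq, h.a_t hp]; group
    _ = t * (p * p) * a p * a q * a (p * q) := by rw [← h.av hp]; group
    _ = t * (a p * a q * a (p * q)) := by rw [h.sq p hp]; group

theorem dl_cen (h : Fam t K D a) {p q c : G} (hp : p ∈ D) (hq : q ∈ D) (hpq : p * q ∈ D) (hc : c ∈ K)
    (cp : c * p = p * c) (cq : c * q = q * c) : c * dl a p q = dl a p q * c := by
  have h1 := h.fix p hp c hc cp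
  have h2 := h.fix q hq c hc cq
  have h3 := h.fix _ hpq c hc (by rw [← mul_assoc, cp, mul_assoc, cq, mul_assoc])
  unfold dl
  calc c * (a p * a q * a (p * q)) = c * a p * a q * a (p * q) := by group
    _ = a p * (c * a q) * a (p * q) := by rw [h1]; group
    _ = a p * a q * (c * a (p * q)) := by rw [h2]; group
    _ = a p * a q * a (p * q) * c := by rw [h3]; group

/-- `a_p a_q = dl · a_{pq}` -/
theorem dl_mul (h : Fam t K D a) {p q : G} (hpq : p * q ∈ D) : a p * a q = dl a p q * a (p * q) := by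
  unfold dl
  rw [mul_assoc (a p * a q), h.aa _ hpq, mul_one]

/-- the cocycle identity -/
theorem dl_assoc (h : Fam t K D a) {u w v : G} (hu : u ∈ D) (huw : u * w ∈ D) (hwv : w * v ∈ D) :
    dl a u w * dl a (u * w) v = a u * dl a w v * a u * dl a u (w * v) := by
  unfold dl
  calc a u * a w * a (u * w) * (a (u * w) * a v * a (u * w * v))
      = a u * a w * (a (u * w) * a (u * w)) * a v * a (u * w * v) := by group
    _ = a u * a w * a v * a (u * w * v) := by rw [h.aa _ huw, mul_one]
    _ = a u * a w * a v * (a (w * v) * a (w * v)) * a (u * (w * v)) := by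
        rw [h.aa _ hwv, mul_one, mul_assoc u w v]
    _ = a u * (a w * a v * a (w * v)) * 1 * a (w * v) * a (u * (w * v)) := by group
    _ = a u * (a w * a v * a (w * v)) * (a u * a u) * a (w * v) * a (u * (w * v)) := by rw [h.aa _ hu]
    _ = a u * (a w * a v * a (w * v)) * a u * (a u * a (w * v) * a (u * (w * v))) := by group

/-- **the defect of a line**, given the centraliser in `K` of `C_K(p, q)` -/
theorem dl_cases (h : Fam t K D a) {p q y ρ : G} (hp : p ∈ D) (hq : q ∈ D) (hpq : p * q ∈ D)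
    (hc : p * q = q * p) (p1 : p ≠ 1) (q1 : q ≠ 1) (npq : p ≠ q) (hρ : ρ ∈ K) (r1 : ρ * p * ρ⁻¹ = q)
    (r2 : ρ * q * ρ⁻¹ = p * q) (yy : y * y = 1) (yp : y * p = p * y) (yq : y * q = q * y)
    (ry : ρ * y * ρ⁻¹ = y)
    (hK : ∀ k ∈ K, (∀ c ∈ K, c * p = p * c → c * q = q * c → c * k = k * c) →
      ∃ m : G, (m = 1 ∨ m = p ∨ m = q ∨ m = p * q) ∧ (k = m ∨ k = m * y)) :
    dl a p q = 1 ∨ dl a p q = y ∨ dl a p q = t * q ∨ dl a p q = t * (q * y) := by
  have pK := h.DK p hp
  have qK := h.DK q hq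
  have pp := h.sq p hp
  have qq := h.sq q hq
  have ap := h.aa p hp
  have aq := h.aa q hq
  have au := h.aa _ hpq
  have q1' : ρ * a p * ρ⁻¹ = a q := by rw [← h.eqv p hp ρ hρ, r1]
  have q2' : ρ * a q * ρ⁻¹ = a (p * q) := by rw [← h.eqv q hq ρ hρ, r2]
  have r3 : ρ * (p * q) * ρ⁻¹ = p := by
    calc ρ * (p * q) * ρ⁻¹ = ρ * p * ρ⁻¹ * (ρ * q * ρ⁻¹) := by group
      _ = q * p * q := by rw [r1, r2]; group
      _ = p * (q * q) := by rw [← hc]; group
      _ = p := by rw [qq, mul_one]
  have q3' : ρ * a (p * q) * ρ⁻¹ = a p := by rw [← h.eqv _ hpq ρ hρ, r3]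
  have tρ : ρ * t * ρ⁻¹ = t := by rw [h.comm ρ hρ]; group
  set f := dl a p q with hf
  have tf : f * t = t * f := h.dl_comm_t hp hq hpq hc
  have cf : ∀ c ∈ K, c * p = p * c → c * q = q * c → c * f = f * c := fun c hc' cp cq => h.dl_cen hp hq hpq hc' cp cq
  have fm : a p * a q = f * a (p * q) := h.dl_mul hpq
  -- `f` commutes with `a_{pq}`, `a_p`, `a_q` up to `t`-parts; treat `k`
  have fixk : ∀ k ∈ K, k * p = p * k → k * q = q * k →
      k * a p = a p * k ∧ k * a q = a q * k ∧ k * a (p * q) = a (p * q) * k := by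
    intro k hk kp kq
    exact ⟨h.fix p hp k hk kp, h.fix q hq k hk kq,
      h.fix _ hpq k hk (by rw [← mul_assoc, kp, mul_assoc, kq, mul_assoc])⟩
  -- the conjugate of an element of the list
  have conjm : ∀ m : G, (m = 1 ∨ m = p ∨ m = q ∨ m = p * q) →
      (m = 1 ∧ ρ * m * ρ⁻¹ = 1) ∨ (m = p ∧ ρ * m * ρ⁻¹ = q) ∨ (m = q ∧ ρ * m * ρ⁻¹ = p * q) ∨
      (m = p * q ∧ ρ * m * ρ⁻¹ = p) := by
    rintro m (rfl | rfl | rfl | rfl)
    · exact Or.inl ⟨rfl, by group⟩
    · exact Or.inr (Or.inl ⟨rfl, r1⟩)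
    · exact Or.inr (Or.inr (Or.inl ⟨rfl, r2⟩))
    · exact Or.inr (Or.inr (Or.inr ⟨rfl, r3⟩))
  rcases h.cen f tf with hfK | hfK
  · -- `f = k ∈ K`
    obtain ⟨m, hm, hfm⟩ := hK f hfK cf
    have kp : f * p = p * f := (cf p pK rfl hc).symm
    have kq : f * q = q * f := (cf q qK hc.symm rfl).symm
    obtain ⟨c1, c2, c3⟩ := fixk f hfK kp kq
    -- `ρ f ρ⁻¹ = f`
    have key : ρ * f * ρ⁻¹ = f := by
      have e1 : a q = f * (a p * a (p * q)) := by
        calc a q = a p * a p * a q := by rw [ap, one_mul]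
          _ = a p * (a p * a q) := by group
          _ = a p * f * a (p * q) := by rw [fm]; group
          _ = f * (a p * a (p * q)) := by rw [← c1]; group
      have e2 : ρ * (a p * a q) * ρ⁻¹ = a q * a (p * q) := by
        calc ρ * (a p * a q) * ρ⁻¹ = ρ * a p * ρ⁻¹ * (ρ * a q * ρ⁻¹) := by group
          _ = a q * a (p * q) := by rw [q1', q2']
      rw [fm] at e2
      have e3 : ρ * (f * a (p * q)) * ρ⁻¹ = ρ * f * ρ⁻¹ * a p := by
        calc ρ * (f * a (p * q)) * ρ⁻¹ = ρ * f * ρ⁻¹ * (ρ * a (p * q) * ρ⁻¹) := by group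
          _ = _ := by rw [q3']
      rw [e3] at e2
      have e4 : a q * a (p * q) = f * a p := by
        rw [e1]
        calc f * (a p * a (p * q)) * a (p * q) = f * a p * (a (p * q) * a (p * q)) := by group
          _ = f * a p := by rw [au, mul_one]
      rw [e4] at e2
      exact mul_right_cancel e2
    have hmm : ρ * m * ρ⁻¹ = m := by
      rcases hfm with e | e
      · rw [← e]; exact key
      · have h1 : ρ * m * ρ⁻¹ * y = m * y := by
          calc ρ * m * ρ⁻¹ * y = ρ * m * ρ⁻¹ * (ρ * y * ρ⁻¹) := by rw [ry]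
            _ = ρ * (m * y) * ρ⁻¹ := by group
            _ = m * y := by rw [← e]; exact key
        exact mul_right_cancel h1
    have m1 : m = 1 := by
      rcases conjm m hm with ⟨e, _⟩ | ⟨e, e'⟩ | ⟨e, e'⟩ | ⟨e, e'⟩
      · exact e
      · exact absurd (e.symm.trans (hmm.symm.trans e')) npq
      · exfalso
        have h1 : p * q = q := by rw [← e', hmm, e]
        exact p1 (mul_eq_right.1 h1)
      · exfalso
        have h1 : p * q = p := by rw [← e, ← hmm, e']
        exact q1 (mul_eq_left.1 h1)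
    subst m1
    rcases hfm with e | e
    · exact Or.inl e
    · exact Or.inr (Or.inl (by rw [e, one_mul]))
  · -- `t f = k ∈ K`
    have kp : t * f * p = p * (t * f) := by
      calc t * f * p = t * (f * p) := by group
        _ = t * p * f := by rw [← cf p pK rfl hc]; group
        _ = p * (t * f) := by rw [← h.comm p pK]; group
    have kq : t * f * q = q * (t * f) := by
      calc t * f * q = t * (f * q) := by group
        _ = t * q * f := by rw [← cf q qK hc.symm rfl]; group
        _ = q * (t * f) := by rw [← h.comm q qK]; group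
    have ck : ∀ c ∈ K, c * p = p * c → c * q = q * c → c * (t * f) = t * f * c := by
      intro c hcK cp cq
      calc c * (t * f) = c * t * f := by group
        _ = t * (c * f) := by rw [h.comm c hcK]; group
        _ = t * f * c := by rw [cf c hcK cp cq]; group
    obtain ⟨m, hm, hfm⟩ := hK (t * f) hfK ck
    obtain ⟨c1, c2, c3⟩ := fixk (t * f) hfK kp kq
    set k := t * f with hk
    have ft : f = t * k := by rw [hk, ← mul_assoc, h.tt, one_mul]
    have kt : k * t = t * k := h.comm k hfK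
    have ym : y * m = m * y := by
      rcases hm with rfl | rfl | rfl | rfl
      · rw [mul_one, one_mul]
      · exact yp
      · exact yq
      · calc y * (p * q) = y * p * q := by group
          _ = p * (y * q) := by rw [yp]; group
          _ = p * q * y := by rw [yq]; group
    have mm : m * m = 1 := by
      rcases hm with rfl | rfl | rfl | rfl
      · exact one_mul _
      · exact pp
      · exact qq
      · calc p * q * (p * q) = p * (q * p) * q := by group
          _ = p * p * (q * q) := by rw [← hc]; group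
          _ = 1 := by rw [pp, qq, one_mul]
    have kk : k * k = 1 := by
      rcases hfm with e | e
      · rw [e, mm]
      · rw [e]
        calc m * y * (m * y) = m * (y * m) * y := by group
          _ = m * m * (y * y) := by rw [ym]; group
          _ = 1 := by rw [mm, yy, one_mul]
    have kk' : k⁻¹ = k := inv_eq_of_mul_eq_one_right kk
    -- `a_p a_q = t k a_{pq}`, `(a_p a_q)² = p q`
    have fm' : a p * a q = t * k * a (p * q) := by rw [fm, ft]
    have sqr : a p * a q * (a p * a q) = p * q := by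
      rw [fm']
      calc t * k * a (p * q) * (t * k * a (p * q)) = t * k * (a (p * q) * t) * k * a (p * q) := by group
        _ = t * k * t * (p * q) * a (p * q) * k * a (p * q) := by rw [h.a_t hpq]; group
        _ = t * (k * t) * (p * q) * (a (p * q) * k) * a (p * q) := by group
        _ = t * t * k * (p * q) * k * (a (p * q) * a (p * q)) := by rw [kt, ← c3]; group
        _ = k * (p * q) * k := by rw [h.tt, au]; group
        _ = k * p * (q * k) := by group
        _ = p * (k * k) * q := by rw [kp, ← kq]; group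
        _ = p * q := by rw [kk, mul_one]
    have flip : a p * a q = p * q * (a q * a p) := by
      rw [← sqr]
      calc a p * a q = a p * a q * a p * 1 * (a p) := by
            rw [mul_one, mul_assoc (a p * a q), ap, mul_one]
        _ = a p * a q * a p * (a q * a q) * a p := by rw [aq]
        _ = a p * a q * (a p * a q) * (a q * a p) := by group
    -- `ρ k ρ⁻¹ = k p`
    have key : ρ * k * ρ⁻¹ = k * p := by
      have e2 : ρ * (a p * a q) * ρ⁻¹ = a q * a (p * q) := by
        calc ρ * (a p * a q) * ρ⁻¹ = ρ * a p * ρ⁻¹ * (ρ * a q * ρ⁻¹) := by group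
          _ = a q * a (p * q) := by rw [q1', q2']
      rw [fm'] at e2
      have e3 : ρ * (t * k * a (p * q)) * ρ⁻¹ = t * (ρ * k * ρ⁻¹) * a p := by
        calc ρ * (t * k * a (p * q)) * ρ⁻¹ = ρ * t * ρ⁻¹ * (ρ * k * ρ⁻¹) * (ρ * a (p * q) * ρ⁻¹) := by group
          _ = _ := by rw [q3', tρ]
      rw [e3] at e2
      -- `a_{pq} = t k a_p a_q`
      have e5 : a (p * q) = t * k * (a p * a q) := by
        rw [fm']
        calc a (p * q) = t * t * (k * k) * a (p * q) := by rw [h.tt, kk, one_mul, one_mul]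
          _ = t * (t * k) * k * a (p * q) := by group
          _ = t * (k * t) * k * a (p * q) := by rw [kt]
          _ = t * k * (t * k * a (p * q)) := by group
      have e4 : a q * a (p * q) = t * (k * p) * a p := by
        rw [e5]
        calc a q * (t * k * (a p * a q)) = a q * t * k * (a p * a q) := by group
          _ = t * q * (a q * k) * (a p * a q) := by rw [h.a_t hq]; group
          _ = t * q * k * (a q * (a p * a q)) := by rw [← c2]; group
          _ = t * q * k * (a q * (p * q * (a q * a p))) := by rw [flip]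
          _ = t * q * k * (a q * p) * q * (a q * a p) := by group
          _ = t * q * k * p * (a q * q) * (a q * a p) := by rw [← h.fix q hq p pK hc]; group
          _ = t * q * k * p * q * (a q * a q) * a p := by rw [← h.av hq]; group
          _ = t * (q * (k * p) * q) * a p := by rw [aq]; group
          _ = t * (q * p * (k * q)) * a p := by rw [kp]; group
          _ = t * (q * p * q * k) * a p := by rw [kq]; group
          _ = t * (p * (q * q) * k) * a p := by rw [← hc]; group
          _ = t * (k * p) * a p := by rw [qq, kp]; group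
      rw [e4] at e2
      have e6 := mul_right_cancel e2
      exact mul_left_cancel e6
    have hmm : ρ * m * ρ⁻¹ = m * p := by
      rcases hfm with e | e
      · rw [← e]; exact key
      · have h1 : ρ * m * ρ⁻¹ * y = m * p * y := by
          calc ρ * m * ρ⁻¹ * y = ρ * m * ρ⁻¹ * (ρ * y * ρ⁻¹) := by rw [ry]
            _ = ρ * (m * y) * ρ⁻¹ := by group
            _ = m * y * p := by rw [← e]; exact key
            _ = m * p * y := by rw [mul_assoc, yp, mul_assoc]
        exact mul_right_cancel h1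
    have m1 : m = q := by
      rcases conjm m hm with ⟨e, e'⟩ | ⟨e, e'⟩ | ⟨e, e'⟩ | ⟨e, e'⟩
      · exfalso
        rw [e', e, one_mul] at hmm
        exact p1 hmm.symm
      · exfalso
        rw [e', e, pp] at hmm
        exact q1 hmm
      · exact e
      · exfalso
        rw [e', e] at hmm
        apply npq
        calc p = p * q * p := hmm
          _ = p * (q * p) := by group
          _ = p * p * q := by rw [← hc]; group
          _ = q := by rw [pp, one_mul]
    rcases hfm with e | e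
    · exact Or.inr (Or.inr (Or.inl (by rw [ft, e, m1])))
    · exact Or.inr (Or.inr (Or.inr (by rw [ft, e, m1])))

/-- **(N0), twisted** -/
theorem tFt (h : Fam t K D a) {v w x ζ η : G} (hv : v ∈ D) (hw : w ∈ D) (hx : x ∈ D)
    (ex : v * w * (v * w) = x) (hvx : v * x = x * v) (hwx : w * x = x * w)
    (mv : v * x ∈ D) (mw : w * x ∈ D) (lv : a (v * x) = ζ * a v * a x) (lw : a (w * x) = η * a w * a x)
    (cv : a v * a x = a x * a v) (cw : a w * a x = a x * a w)
    (ζK : ζ ∈ K) (ηK : η ∈ K) (ζζ : ζ * ζ = 1) (ηη : η * η = 1)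
    (ζv : ζ * v = v * ζ) (ζw : ζ * w = w * ζ) (ζx : ζ * x = x * ζ)
    (ηv : η * v = v * η) (ηw : η * w = w * η) (ηx : η * x = x * η) :
    t * F a v w * t = η * (ζ * F a v w) := by
  have vv := h.sq v hv
  have ww := h.sq w hw
  have vi : v⁻¹ = v := inv_eq_of_mul_eq_one_right vv
  have wi : w⁻¹ = w := inv_eq_of_mul_eq_one_right ww
  have e1 : w * v * w⁻¹ = v * x := by
    rw [wi, ← ex]
    calc w * v * w = v * v * w * v * w := by rw [vv, one_mul]
      _ = v * (v * w * (v * w)) := by group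
  have e2 : v * w * v⁻¹ = w * x := by
    have h1 : v * w = x * (w * v) := by
      rw [← ex]
      calc v * w = v * w * v * (w * w) * v := by rw [ww, mul_one, mul_assoc (v * w), vv, mul_one]
        _ = v * w * (v * w) * (w * v) := by group
    rw [vi, h1]
    calc x * (w * v) * v = x * w * (v * v) := by group
      _ = w * x := by rw [vv, mul_one, hwx]
  have wA : w * a v = ζ * a v * a x * w := by
    have h1 := h.eqv v hv w (h.DK w hw)
    rw [e1, lv] at h1
    rw [h1]; group
  have vB : v * a w = η * a w * a x * v := by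
    have h1 := h.eqv w hw v (h.DK v hv)
    rw [e2, lw] at h1
    rw [h1]; group
  have vC : v * a x = a x * v := h.fix x hx v (h.DK v hv) hvx
  have wC : w * a x = a x * w := h.fix x hx w (h.DK w hw) hwx
  have ζA := h.fix v hv ζ ζK ζv
  have ζB := h.fix w hw ζ ζK ζw
  have ζC := h.fix x hx ζ ζK ζx
  have ηA := h.fix v hv η ηK ηv
  have ηB := h.fix w hw η ηK ηw
  have ηC := h.fix x hx η ηK ηx
  have hvA := h.av hv
  have hwB := h.av hw
  have aux : a x * a x = 1 := h.aa x hx
  set A := a v with hA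
  set B := a w with hB
  set C := a x with hC
  -- the common value `A B A C B`
  have h1 : A * v * B * (A * v * B) = η * (A * B * A * C * B) := by
    calc A * v * B * (A * v * B) = A * (v * B) * A * (v * B) := by group
      _ = (A * η) * B * C * (v * A) * η * B * C * v := by rw [vB]; group
      _ = η * A * B * C * A * (v * η) * B * C * v := by rw [← ηA, hvA]; group
      _ = η * A * B * C * (A * η) * (v * B) * C * v := by rw [← ηv]; group
      _ = η * A * B * (C * η) * A * (v * B) * C * v := by rw [← ηA]; group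
      _ = η * A * (B * η) * C * A * (v * B) * C * v := by rw [← ηC]; group
      _ = η * (A * η) * B * C * A * (v * B) * C * v := by rw [← ηB]; group
      _ = (η * η) * A * B * C * A * (v * B) * C * v := by rw [← ηA]; group
      _ = A * B * C * (A * η) * B * C * (v * C) * v := by rw [ηη, vB]; group
      _ = A * B * (C * η) * A * B * C * C * (v * v) := by rw [← ηA, vC]; group
      _ = A * (B * η) * C * A * B * (C * C) := by rw [← ηC, vv]; group
      _ = (A * η) * B * C * A * B := by rw [← ηB, aux]; group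
      _ = η * (A * B * (C * A) * B) := by rw [← ηA]; group
      _ = η * (A * B * A * C * B) := by rw [← cv]; group
  have h2 : A * (B * w) * (A * (B * w)) = ζ * (A * B * A * C * B) := by
    calc A * (B * w) * (A * (B * w)) = A * B * (w * A) * B * w := by group
      _ = A * (B * ζ) * A * C * (w * B) * w := by rw [wA]; group
      _ = (A * ζ) * B * A * C * B * (w * w) := by rw [← ζB, hwB]; group
      _ = ζ * (A * B * A * C * B) := by rw [← ζA, ww]; group
  have h3 : t * F a v w * t = A * v * B * (A * v * B) := by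
    unfold F
    calc t * (a v * b a w * (a v * b a w)) * t
        = t * a v * 1 * b a w * 1 * a v * 1 * b a w * t := by group
      _ = t * a v * (t * t) * b a w * (t * t) * a v * (t * t) * b a w * t := by rw [h.tt]
      _ = t * a v * t * (t * b a w * t) * (t * a v * t * (t * b a w * t)) := by group
      _ = b a v * a w * (b a v * a w) := by rw [h.conj_t hv, h.conj_t' hw]
  have h4 : F a v w = ζ * (A * B * A * C * B) := h2
  rw [h3, h1, h4, ← mul_assoc ζ ζ, ζζ, one_mul]

/-- the norm formula -/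
theorem F_mul (h : Fam t K D a) {v w₁ w₂ : G} (hv : v ∈ D) (h1 : w₁ ∈ D) (h2 : w₂ ∈ D)
    (h12 : w₁ * w₂ ∈ D) (hc : w₁ * w₂ = w₂ * w₁) (e : a (w₁ * w₂) = a w₁ * a w₂) :
    F a v (w₁ * w₂) = F a v w₁ * (b a w₁ * F a v w₂ * b a w₁) := by
  have hb := h.b_line h1 h2 hc e
  have hbc : b a w₁ * b a w₂ = b a w₂ * b a w₁ := h.dual.line_comm h1 h2 h12 hb
  unfold F
  rw [hb]
  calc a v * (b a w₁ * b a w₂) * (a v * (b a w₁ * b a w₂))
      = a v * b a w₁ * b a w₂ * a v * (b a w₁ * b a w₂) := by group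
    _ = a v * b a w₁ * b a w₂ * a v * (b a w₂ * b a w₁) := by rw [hbc]
    _ = a v * b a w₁ * 1 * b a w₂ * (a v * b a w₂) * b a w₁ := by group
    _ = a v * b a w₁ * (a v * a v) * b a w₂ * (a v * b a w₂) * b a w₁ := by rw [h.aa v hv]
    _ = a v * b a w₁ * a v * 1 * (a v * b a w₂ * (a v * b a w₂)) * b a w₁ := by group
    _ = a v * b a w₁ * a v * (b a w₁ * b a w₁) * (a v * b a w₂ * (a v * b a w₂)) * b a w₁ := by
        rw [h.bb h1]
    _ = _ := by group

end Fam

end Cfsg.Agent.OddHalf.D8.Phi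

end

-- merged: Cfsg.Agent.OddHalf.D8.Phi.RuEnd
section

/-!
# ODD half, D8, K = Ru: the end (helper879)

`structure Facts K D z q ρ v₁ q' ρ' y y' v₂ w s u₂ u₃ u₄` lists the facts on `K` which are used; all pairs `(p, q)` below are
ordered pairs of elements of `D` (class 2A) up to conjugacy in `K`:

* `(z, q)` of type 640 with `C_K(C_K(z, q)) = ⟨z, q⟩`, cycled by `ρ`, and `v₁` such that `(z q, v₁)`, `(q, v₁)`,
  `(z, q v₁)` are of the same type;
* `(z, q')` of type 480 with `C_K(C_K(z, q')) = ⟨z, q', y⟩`, cycled by `ρ'`, `[ρ', y] = 1`, and `v₂` such that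
  `(z q', v₂)`, `(q', v₂)` are of type 640 and `(z, q', y)` is conjugate to `(z, q' v₂, y')`, `y ≠ y'`, `v₂ ≠ y y'`;
* `(z, w)` with `x = (z w)²`, the pairs `(z, x)`, `(w, x)` of type 640, `{k ∈ C_K(z, w, C_K(z, w)) | k² = 1} = {1, x}`;
* `s` such that `(z, s)` is conjugate to `(z, w)`, `(w, s)` is of type 640 and for `X = (z w s)²` the pairs `(z, X)`,
  `(w s, X)` are of type 480; `(z s)²` does not commute with `w`;
* all pairs of `z, u₂, u₃, u₄` are conjugate to `(z, w)`, and these four involutions generate `K`.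

`Facts.exists_hom`: a finite group `G` with an equivariant family has a homomorphism onto `{1, -1}` with `t ↦ -1`.
-/

set_option autoImplicit false

namespace Cfsg.Agent.OddHalf.D8.Phi.RuEnd

open Subgroup

variable {G : Type*} [Group G]

/-- the facts on `K`; see the header -/
structure Facts (K : Subgroup G) (D : Set G) (z q ρ v₁ q' ρ' y y' v₂ w s u₂ u₃ u₄ : G) : Prop where
  zD : z ∈ D
  qD : q ∈ D
  qD' : q' ∈ D
  wD : w ∈ D
  z1 : z ≠ 1
  -- type 640
  qz : z * q = q * z
  qnz : z ≠ q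
  ρK : ρ ∈ K
  ρ1 : ρ * z * ρ⁻¹ = q
  ρ2 : ρ * q * ρ⁻¹ = z * q
  cenq : ∀ k ∈ K, (∀ c ∈ K, c * z = z * c → c * q = q * c → c * k = k * c) →
    k = 1 ∨ k = z ∨ k = q ∨ k = z * q
  e1 : PC K z q (z * q) v₁
  e2 : PC K z q q v₁
  e3 : PC K z q z (q * v₁)
  v₁z : v₁ ≠ z
  -- type 480
  qz' : z * q' = q' * z
  qnz' : z ≠ q'
  ρK' : ρ' ∈ K
  ρ1' : ρ' * z * ρ'⁻¹ = q'
  ρ2' : ρ' * q' * ρ'⁻¹ = z * q'
  yy : y * y = 1
  yz : y * z = z * y
  yq' : y * q' = q' * y
  ρy : ρ' * y * ρ'⁻¹ = y
  cenq' : ∀ k ∈ K, (∀ c ∈ K, c * z = z * c → c * q' = q' * c → c * k = k * c) →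
    ∃ m : G, (m = 1 ∨ m = z ∨ m = q' ∨ m = z * q') ∧ (k = m ∨ k = m * y)
  f1 : PC K z q (z * q') v₂
  f2 : PC K z q q' v₂
  f3 : TC K z q' y z (q' * v₂) y'
  yy' : y ≠ y'
  v₂y : v₂ ≠ y * y'
  -- the pair `(z, w)` of type 5120
  lz : PC K z q z (z * w * (z * w))
  lw : PC K z q w (z * w * (z * w))
  cenw : ∀ k ∈ K, k * k = 1 → k * z = z * k → k * w = w * k →
    (∀ c ∈ K, c * z = z * c → c * w = w * c → c * k = k * c) → k = 1 ∨ k = z * w * (z * w)
  -- the kill
  ps : PC K z w z s
  ws : PC K z q w s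
  nz : PC K z q' z (z * (w * s) * (z * (w * s)))
  nw : PC K z q' (w * s) (z * (w * s) * (z * (w * s)))
  kill : z * s * (z * s) * w ≠ w * (z * s * (z * s))
  -- the clique
  c12 : PC K z w z u₂
  c13 : PC K z w z u₃
  c14 : PC K z w z u₄
  c23 : PC K z w u₂ u₃
  c24 : PC K z w u₂ u₄
  c34 : PC K z w u₃ u₄
  gen : closure ({z, u₂, u₃, u₄} : Set G) = K
  cen : ∀ k ∈ K, (∀ c ∈ K, k * c = c * k) → k = 1

namespace Facts

variable {t : G} {K : Subgroup G} {D : Set G} {a : G → G} {z q ρ v₁ q' ρ' y y' v₂ w s u₂ u₃ u₄ : G}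

theorem q1 (C : Facts K D z q ρ v₁ q' ρ' y y' v₂ w s u₂ u₃ u₄) : q ≠ 1 := by
  intro e
  have h := C.ρ1
  rw [e] at h
  apply C.z1
  calc z = ρ⁻¹ * (ρ * z * ρ⁻¹) * ρ := by group
    _ = 1 := by rw [h]; group

theorem q1' (C : Facts K D z q ρ v₁ q' ρ' y y' v₂ w s u₂ u₃ u₄) : q' ≠ 1 := by
  intro e
  have h := C.ρ1'
  rw [e] at h
  apply C.z1
  calc z = ρ'⁻¹ * (ρ' * z * ρ'⁻¹) * ρ' := by group
    _ = 1 := by rw [h]; group

theorem zqD (h : Fam t K D a) (C : Facts K D z q ρ v₁ q' ρ' y y' v₂ w s u₂ u₃ u₄) : z * q ∈ D := by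
  rw [← C.ρ2]
  exact h.conj q C.qD ρ C.ρK

theorem zqD' (h : Fam t K D a) (C : Facts K D z q ρ v₁ q' ρ' y y' v₂ w s u₂ u₃ u₄) : z * q' ∈ D := by
  rw [← C.ρ2']
  exact h.conj q' C.qD' ρ' C.ρK'

theorem t1 (h : Fam t K D a) : t ≠ 1 := fun e => h.tK (by rw [e]; exact K.one_mem)

/-- the lines of type 640 are exact -/
theorem dl640 (h : Fam t K D a) (C : Facts K D z q ρ v₁ q' ρ' y y' v₂ w s u₂ u₃ u₄) : dl a z q = 1 := by
  have zqD := C.zqD h
  have key := h.dl_cases (y := 1) C.zD C.qD zqD C.qz C.z1 C.q1 C.qnz C.ρK C.ρ1 C.ρ2 (one_mul _)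
    (by rw [one_mul, mul_one]) (by rw [one_mul, mul_one]) (by group) fun k hk hc => by
      rcases C.cenq k hk hc with e | e | e | e
      · exact ⟨1, Or.inl rfl, Or.inl e⟩
      · exact ⟨z, Or.inr (Or.inl rfl), Or.inl e⟩
      · exact ⟨q, Or.inr (Or.inr (Or.inl rfl)), Or.inl e⟩
      · exact ⟨z * q, Or.inr (Or.inr (Or.inr rfl)), Or.inl e⟩
  rw [mul_one] at key
  rcases key with e | e | e | e
  · exact e
  · exact e
  all_goals
    exfalso
    -- the defect of every line of type 640 is `t` times its second member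
    have all : ∀ {p' r' : G}, PC K z q p' r' → dl a p' r' = t * r' := by
      rintro p' r' ⟨g, hg, rfl, rfl⟩
      rw [h.dl_conj C.zD C.qD zqD hg, e]
      calc g * (t * q) * g⁻¹ = g * t * q * g⁻¹ := by group
        _ = t * (g * q * g⁻¹) := by rw [h.comm g hg]; group
    have hv₁D : v₁ ∈ D := h.D_PC' C.e2 C.qD
    have hqvD : q * v₁ ∈ D := h.D_PC' C.e3 C.qD
    have E := h.dl_assoc (u := z) (w := q) (v := v₁) C.zD zqD hqvD
    rw [e, all C.e1, all C.e2, all C.e3] at E
    have qv : q * v₁ = v₁ * q := Fam.comm_PC C.e2 C.qz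
    have zqv : z * q * v₁ = v₁ * (z * q) := Fam.comm_PC C.e1 C.qz
    have zv : z * v₁ = v₁ * z := by
      have h1 : z * v₁ * q = v₁ * z * q := by
        calc z * v₁ * q = z * (q * v₁) := by rw [qv]; group
          _ = z * q * v₁ := by group
          _ = v₁ * z * q := by rw [zqv]; group
      exact mul_right_cancel h1
    have qt : q * t = t * q := h.comm q (h.DK q C.qD)
    have v₁t : v₁ * t = t * v₁ := h.comm v₁ (h.DK _ hv₁D)
    have av : a z * v₁ = v₁ * a z := (h.fix z C.zD v₁ (h.DK _ hv₁D) zv.symm).symm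
    have L : t * q * (t * v₁) = q * v₁ := by
      calc t * q * (t * v₁) = t * (q * t) * v₁ := by group
        _ = t * t * q * v₁ := by rw [qt]; group
        _ = q * v₁ := by rw [h.tt, one_mul]
    have R : a z * (t * v₁) * a z * (t * (q * v₁)) = z * q := by
      calc a z * (t * v₁) * a z * (t * (q * v₁)) = a z * t * (v₁ * a z) * (t * (q * v₁)) := by group
        _ = (a z * t * a z) * (v₁ * t) * (q * v₁) := by rw [← av]; group
        _ = t * z * t * v₁ * (q * v₁) := by rw [h.swap z C.zD, v₁t]; group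
        _ = t * (z * t) * v₁ * (v₁ * q) := by rw [qv]; group
        _ = t * t * z * (v₁ * v₁) * q := by rw [h.comm z (h.DK z C.zD)]; group
        _ = z * q := by rw [h.tt, h.sq _ hv₁D]; group
    rw [L, R] at E
    apply C.v₁z
    have h1 : v₁ * q = z * q := by rw [← qv, E]
    exact mul_right_cancel h1

theorem dl_of_PC (h : Fam t K D a) (C : Facts K D z q ρ v₁ q' ρ' y y' v₂ w s u₂ u₃ u₄) {p r : G}
    (e : PC K z q p r) : dl a p r = 1 := by
  obtain ⟨g, hg, rfl, rfl⟩ := e
  rw [h.dl_conj C.zD C.qD (C.zqD h) hg, C.dl640 h]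
  group

/-- the lines of type 480 are exact -/
theorem dl480 (h : Fam t K D a) (C : Facts K D z q ρ v₁ q' ρ' y y' v₂ w s u₂ u₃ u₄) : dl a z q' = 1 := by
  have zqD' := C.zqD' h
  have hv₂D : v₂ ∈ D := h.D_PC' C.f2 C.qD
  obtain ⟨g, hg, g1, g2, g3⟩ := C.f3
  have hqvD : q' * v₂ ∈ D := by
    rw [← g2]
    exact h.conj q' C.qD' g hg
  -- the cocycle identity
  have E := h.dl_assoc (u := z) (w := q') (v := v₂) C.zD zqD' hqvD
  rw [C.dl_of_PC h C.f1, C.dl_of_PC h C.f2, mul_one, mul_one, h.aa z C.zD, one_mul] at E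
  have E' : dl a z q' = g * dl a z q' * g⁻¹ := by
    conv_lhs => rw [E]
    rw [← h.dl_conj C.zD C.qD' zqD' hg, g1, g2]
  have key := h.dl_cases C.zD C.qD' zqD' C.qz' C.z1 C.q1' C.qnz' C.ρK' C.ρ1' C.ρ2' C.yy C.yz C.yq' C.ρy C.cenq'
  have gt : g * t * g⁻¹ = t := by rw [h.comm g hg]; group
  have v₂1 : v₂ ≠ 1 := by
    intro e
    obtain ⟨l, hl, -, l2⟩ := C.f2
    apply C.q1
    calc q = l⁻¹ * (l * q * l⁻¹) * l := by group
      _ = 1 := by rw [l2, e]; group
  rcases key with e | e | e | e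
  · exact e
  · exfalso
    rw [e, g3] at E'
    exact C.yy' E'
  · exfalso
    rw [e] at E'
    have h1 : t * q' = t * (q' * v₂) := by
      calc t * q' = g * (t * q') * g⁻¹ := E'
        _ = g * t * g⁻¹ * (g * q' * g⁻¹) := by group
        _ = t * (q' * v₂) := by rw [gt, g2]
    have h2 : q' = q' * v₂ := mul_left_cancel h1
    exact v₂1 (mul_eq_left.1 h2.symm)
  · exfalso
    rw [e] at E'
    have h1 : t * (q' * y) = t * (q' * (v₂ * y')) := by
      calc t * (q' * y) = g * (t * (q' * y)) * g⁻¹ := E'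
        _ = g * t * g⁻¹ * (g * q' * g⁻¹) * (g * y * g⁻¹) := by group
        _ = t * (q' * (v₂ * y')) := by rw [gt, g2, g3]; group
    have h2 : y = v₂ * y' := mul_left_cancel (mul_left_cancel h1)
    apply C.v₂y
    have h3 : y' * y' = 1 := by
      rw [← g3]
      calc g * y * g⁻¹ * (g * y * g⁻¹) = g * (y * y) * g⁻¹ := by group
        _ = 1 := by rw [C.yy]; group
    calc v₂ = v₂ * (y' * y') := by rw [h3, mul_one]
      _ = v₂ * y' * y' := by group
      _ = y * y' := by rw [← h2]

theorem line640 (h : Fam t K D a) (C : Facts K D z q ρ v₁ q' ρ' y y' v₂ w s u₂ u₃ u₄) {p r : G}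
    (e : PC K z q p r) : p ∈ D ∧ r ∈ D ∧ p * r ∈ D ∧ p * r = r * p ∧ a (p * r) = a p * a r := by
  have h1 := h.D_PCm e (C.zqD h)
  refine ⟨h.D_PC e C.zD, h.D_PC' e C.qD, h1, Fam.comm_PC e C.qz, ?_⟩
  rw [h.dl_mul h1, C.dl_of_PC h e, one_mul]

theorem line480 (h : Fam t K D a) (C : Facts K D z q ρ v₁ q' ρ' y y' v₂ w s u₂ u₃ u₄) {p r : G}
    (e : PC K z q' p r) : p ∈ D ∧ r ∈ D ∧ p * r ∈ D ∧ p * r = r * p ∧ a (p * r) = a p * a r := by
  have h1 := h.D_PCm e (C.zqD' h)
  refine ⟨h.D_PC e C.zD, h.D_PC' e C.qD', h1, Fam.comm_PC e C.qz', ?_⟩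
  have h2 : dl a p r = 1 := by
    obtain ⟨g, hg, rfl, rfl⟩ := e
    rw [h.dl_conj C.zD C.qD' (C.zqD' h) hg, C.dl480 h]
    group
  rw [h.dl_mul h1, h2, one_mul]

/-- `(z, w)` is good -/
theorem good_zw (h : Fam t K D a) (C : Facts K D z q ρ v₁ q' ρ' y y' v₂ w s u₂ u₃ u₄) : Good a z w := by
  obtain ⟨-, xD, mz, hzx, lz⟩ := C.line640 h C.lz
  obtain ⟨-, -, mw, hwx, lw⟩ := C.line640 h C.lw
  have x1 : z * w * (z * w) ≠ 1 := by
    intro e
    obtain ⟨g, -, -, g2⟩ := C.lz
    apply C.q1
    calc q = g⁻¹ * (g * q * g⁻¹) * g := by group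
      _ = 1 := by rw [g2, e]; group
  obtain ⟨FK, FF, Fz, Fw, Fc⟩ := h.F_mem C.zD C.wD xD rfl x1 hzx hwx lz lw mz mw
  rw [h.good_iff C.zD C.wD]
  rcases C.cenw _ FK FF Fz Fw Fc with e | e
  · exact e
  · exfalso
    -- the pair `(z, s)`
    obtain ⟨g, hg, g1, g2⟩ := C.ps
    have sD : s ∈ D := by rw [← g2]; exact h.conj w C.wD g hg
    have Fs : F a z s = z * s * (z * s) := by
      calc F a z s = F a (g * z * g⁻¹) (g * w * g⁻¹) := by rw [g1, g2]
        _ = g * (z * w * (z * w)) * g⁻¹ := by rw [h.F_conj C.zD C.wD hg, e]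
        _ = g * z * g⁻¹ * (g * w * g⁻¹) * (g * z * g⁻¹ * (g * w * g⁻¹)) := by group
        _ = z * s * (z * s) := by rw [g1, g2]
    have FsK : F a z s ∈ K := by
      rw [Fs]
      have h1 := mul_mem (h.DK z C.zD) (h.DK s sD)
      exact mul_mem h1 h1
    -- the pair `(z, w s)`
    obtain ⟨-, -, wsD, hws, lws⟩ := C.line640 h C.ws
    obtain ⟨-, XD, mz', hzX, lz'⟩ := C.line480 h C.nz
    obtain ⟨-, -, mw', hwX, lw'⟩ := C.line480 h C.nw
    have X1 : z * (w * s) * (z * (w * s)) ≠ 1 := by
      intro e'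
      obtain ⟨g', -, -, g2'⟩ := C.nz
      apply C.q1'
      calc q' = g'⁻¹ * (g' * q' * g'⁻¹) * g' := by group
        _ = 1 := by rw [g2', e']; group
    have FwsK := (h.F_mem C.zD wsD XD rfl X1 hzX hwX lz' lw' mz' mw').1
    have key := h.norm_comm C.zD C.wD sD wsD hws lws FK FsK FwsK
    rw [Fs] at key
    exact C.kill key

theorem good_of_PC (h : Fam t K D a) (C : Facts K D z q ρ v₁ q' ρ' y y' v₂ w s u₂ u₃ u₄) {p r : G}
    (e : PC K z w p r) : p ∈ D ∧ r ∈ D ∧ Good a p r ∧ Good a r p := by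
  have h1 := h.D_PC e C.zD
  have h2 := h.D_PC' e C.wD
  have h3 : Good a p r := by
    obtain ⟨g, hg, rfl, rfl⟩ := e
    exact h.good_conj C.zD C.wD hg (C.good_zw h)
  exact ⟨h1, h2, h3, h.good_symm h1 h2 h3⟩

/-- **the end for `K = Ru`** -/
theorem exists_hom [Finite G] (h : Fam t K D a) (C : Facts K D z q ρ v₁ q' ρ' y y' v₂ w s u₂ u₃ u₄) :
    ∃ m : G →* ℤˣ, m t = -1 := by
  obtain ⟨-, u₂D, g12, g21⟩ := C.good_of_PC h C.c12
  obtain ⟨-, u₃D, g13, g31⟩ := C.good_of_PC h C.c13
  obtain ⟨-, u₄D, g14, g41⟩ := C.good_of_PC h C.c14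
  obtain ⟨-, -, g23, g32⟩ := C.good_of_PC h C.c23
  obtain ⟨-, -, g24, g42⟩ := C.good_of_PC h C.c24
  obtain ⟨-, -, g34, g43⟩ := C.good_of_PC h C.c34
  have g11 := h.good_self C.zD
  have g22 := h.good_self u₂D
  have g33 := h.good_self u₃D
  have g44 := h.good_self u₄D
  refine h.exists_hom_of_clique (D₀ := {z, u₂, u₃, u₄}) ?_ ?_ C.gen C.cen ?_
  · rintro v (rfl | rfl | rfl | rfl)
    · exact C.zD
    · exact u₂D
    · exact u₃D
    · exact u₄D
  · rintro v (rfl | rfl | rfl | rfl) r (rfl | rfl | rfl | rfl) <;> assumption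
  · refine ⟨z, h.DK z C.zD, w, h.DK w C.wD, ?_⟩
    intro e
    obtain ⟨g, -, -, g2⟩ := C.lz
    apply C.q1
    have ww := h.sq w C.wD
    calc q = g⁻¹ * (g * q * g⁻¹) * g := by group
      _ = g⁻¹ * (z * w * (z * w)) * g := by rw [g2]
      _ = g⁻¹ * (z * (w * z) * w) * g := by group
      _ = g⁻¹ * (z * z * (w * w)) * g := by rw [← e]; group
      _ = 1 := by rw [h.sq z C.zD, ww]; group

/-- transport along an injective homomorphism -/
theorem map {X : Type*} [Group X] {D : Set X} {z q ρ v₁ q' ρ' y y' v₂ w s u₂ u₃ u₄ : X}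
    (C : Facts (⊤ : Subgroup X) D z q ρ v₁ q' ρ' y y' v₂ w s u₂ u₃ u₄) (f : X →* G)
    (hf : Function.Injective f) :
    Facts f.range (f '' D) (f z) (f q) (f ρ) (f v₁) (f q') (f ρ') (f y) (f y') (f v₂) (f w) (f s) (f u₂)
      (f u₃) (f u₄) := by
  have mp : ∀ {p r p' r' : X}, PC ⊤ p r p' r' → PC f.range (f p) (f r) (f p') (f r') := by
    rintro p r p' r' ⟨g, -, rfl, rfl⟩
    exact ⟨f g, ⟨g, rfl⟩, by simp, by simp⟩
  have mt : ∀ {p r x p' r' x' : X}, TC ⊤ p r x p' r' x' → TC f.range (f p) (f r) (f x) (f p') (f r') (f x') := by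
    rintro p r x p' r' x' ⟨g, -, rfl, rfl, rfl⟩
    exact ⟨f g, ⟨g, rfl⟩, by simp, by simp, by simp⟩
  have mc : ∀ {p r k : X}, (∀ c ∈ f.range, c * f p = f p * c → c * f r = f r * c → c * f k = f k * c) →
      ∀ c ∈ (⊤ : Subgroup X), c * p = p * c → c * r = r * c → c * k = k * c := by
    intro p r k hk c _ c1 c2
    apply hf
    rw [map_mul, map_mul]
    exact hk (f c) ⟨c, rfl⟩ (by rw [← map_mul, c1, map_mul]) (by rw [← map_mul, c2, map_mul])
  refine ⟨⟨z, C.zD, rfl⟩, ⟨q, C.qD, rfl⟩, ⟨q', C.qD', rfl⟩, ⟨w, C.wD, rfl⟩, ?_, ?_, ?_, ⟨ρ, rfl⟩, ?_, ?_, ?_, ?_,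
    mp C.e2, ?_, ?_, ?_, ?_, ⟨ρ', rfl⟩, ?_, ?_, ?_, ?_, ?_, ?_, ?_, ?_, mp C.f2, ?_, ?_, ?_, ?_, ?_, ?_, mp C.ps,
    mp C.ws, ?_, ?_, ?_, mp C.c12, mp C.c13, mp C.c14, mp C.c23, mp C.c24, mp C.c34, ?_, ?_⟩
  · exact fun e => C.z1 (hf (by rw [e, map_one]))
  · rw [← map_mul, C.qz, map_mul]
  · exact fun e => C.qnz (hf e)
  · rw [← map_mul, ← map_inv, ← map_mul, C.ρ1]
  · rw [← map_mul, ← map_inv, ← map_mul, C.ρ2, map_mul]
  · rintro _ ⟨k, rfl⟩ hk
    rcases C.cenq k (mem_top k) (mc hk) with rfl | rfl | rfl | rfl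
    · exact Or.inl (map_one f)
    · exact Or.inr (Or.inl rfl)
    · exact Or.inr (Or.inr (Or.inl rfl))
    · exact Or.inr (Or.inr (Or.inr (map_mul f _ _)))
  · rw [← map_mul]; exact mp C.e1
  · rw [← map_mul]; exact mp C.e3
  · exact fun e => C.v₁z (hf e)
  · rw [← map_mul, C.qz', map_mul]
  · exact fun e => C.qnz' (hf e)
  · rw [← map_mul, ← map_inv, ← map_mul, C.ρ1']
  · rw [← map_mul, ← map_inv, ← map_mul, C.ρ2', map_mul]
  · rw [← map_mul, C.yy, map_one]
  · rw [← map_mul, C.yz, map_mul]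
  · rw [← map_mul, C.yq', map_mul]
  · rw [← map_mul, ← map_inv, ← map_mul, C.ρy]
  · rintro _ ⟨k, rfl⟩ hk
    obtain ⟨m, hm, hk⟩ := C.cenq' k (mem_top k) (mc hk)
    refine ⟨f m, ?_, ?_⟩
    · rcases hm with rfl | rfl | rfl | rfl
      · exact Or.inl (map_one f)
      · exact Or.inr (Or.inl rfl)
      · exact Or.inr (Or.inr (Or.inl rfl))
      · exact Or.inr (Or.inr (Or.inr (map_mul f _ _)))
    · rcases hk with rfl | rfl
      · exact Or.inl rfl
      · exact Or.inr (map_mul f _ _)
  · rw [← map_mul]; exact mp C.f1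
  · rw [← map_mul]; exact mt C.f3
  · exact fun e => C.yy' (hf e)
  · intro e
    rw [← map_mul] at e
    exact C.v₂y (hf e)
  · rw [← map_mul, ← map_mul]; exact mp C.lz
  · rw [← map_mul, ← map_mul]; exact mp C.lw
  · rintro _ ⟨k, rfl⟩ h1 h2 h3 hk
    rw [← map_mul, ← map_one f] at h1
    rw [← map_mul, ← map_mul] at h2 h3
    rcases C.cenw k (mem_top k) (hf h1) (hf h2) (hf h3) (mc hk) with rfl | rfl
    · exact Or.inl (map_one f)
    · right
      rw [map_mul, map_mul]
  · rw [← map_mul, ← map_mul, ← map_mul]; exact mp C.nz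
  · rw [← map_mul, ← map_mul, ← map_mul]; exact mp C.nw
  · intro e
    apply C.kill
    apply hf
    simpa only [map_mul] using e
  · have h1 := congrArg (Subgroup.map f) C.gen
    rw [MonoidHom.map_closure, ← MonoidHom.range_eq_map] at h1
    rw [← h1]
    congr 1
    simp only [Set.image_insert_eq, Set.image_singleton]
  · rintro _ ⟨k, rfl⟩ hk
    rw [← map_one f]
    congr 1
    refine C.cen k (mem_top k) fun c _ => hf ?_
    rw [map_mul, map_mul]
    exact hk (f c) ⟨c, rfl⟩

end Facts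

end Cfsg.Agent.OddHalf.D8.Phi.RuEnd

end
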